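import Cfsg.Agent.CharDeep.SzUniq.Model
import Cfsg.Agent.Lib.Suzuki.Simple
import Mathlib.FieldTheory.Finite.Basic

/-!
# The Suzuki group as a model
-/

set_option autoImplicit false

namespace Cfsg.Agent.CharDeep.SzUniq

open Cfsg.Agent.Suzuki
open scoped Pointwise

variable {F : Type*} [Field F] [Fintype F] [CharP F 2]

/-- An automorphism that is inverse to a square root of squaring. -/
theorem symm_eq_sig {m : ℕ} (hm : 1 ≤ m) (hF : Fintype.card F = 2 ^ (2 * m + 1)) (φ : F ≃+* F)
    (h : ∀ x, φ (φ (x * x)) = x) (x : F) : φ.symm x = sig m x := by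
  classical
  set σ := φ.symm with hσdef
  have hσ : ∀ y, σ (σ y) = y ^ 2 := fun y => by
    have := congrArg (fun z => σ (σ z)) (h y)
    simp only [hσdef, RingEquiv.symm_apply_apply] at this
    rw [← this, pow_two]
  letI : Algebra (ZMod 2) F := ZMod.algebra F 2
  let s : F ≃ₐ[ZMod 2] F := AlgEquiv.ofRingEquiv (f := σ) (fun r =>
    RingHom.congr_fun (RingHom.ext_zmod ((σ : F →+* F).comp (algebraMap (ZMod 2) F))
      (algebraMap (ZMod 2) F)) r)
  obtain ⟨j, hj⟩ := (FiniteField.bijective_frobeniusAlgEquivOfAlgebraic_pow (ZMod 2) F).2 s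
  have hfin : Module.finrank (ZMod 2) F = 2 * m + 1 := by
    have := Module.card_eq_pow_finrank (K := ZMod 2) (V := F)
    rw [hF, ZMod.card] at this
    exact (Nat.pow_right_injective le_rfl this).symm
  have hjlt : (j : ℕ) < 2 * m + 1 := hfin ▸ j.2
  have hpow : ∀ (i : ℕ) (y : F),
      ((FiniteField.frobeniusAlgEquivOfAlgebraic (ZMod 2) F) ^ i) y = y ^ 2 ^ i := by
    intro i
    induction i with
    | zero => intro y; simp
    | succ i ih =>
      intro y
      rw [pow_succ', AlgEquiv.mul_apply, ih, FiniteField.coe_frobeniusAlgEquivOfAlgebraic]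
      simp [ZMod.card, ← pow_mul, ← pow_succ]
  have hsig : ∀ y, σ y = y ^ 2 ^ (j : ℕ) := fun y => by
    rw [← hpow]
    exact (congrArg (fun e : F ≃ₐ[ZMod 2] F => e y) hj).symm
  -- exponents are determined
  obtain ⟨g, hg⟩ := IsCyclic.exists_generator (α := Fˣ)
  have hord : orderOf g = 2 ^ (2 * m + 1) - 1 := by
    rw [orderOf_eq_card_of_forall_mem_zpowers hg, Nat.card_units, Nat.card_eq_fintype_card, hF]
  have h8 : 8 ≤ 2 ^ (2 * m + 1) :=
    le_trans (by norm_num) (Nat.pow_le_pow_right (show 0 < 2 by norm_num) (show 3 ≤ 2 * m + 1 by omega))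
  have hlt : ∀ i, i < 2 * m + 1 → 2 ^ i < 2 ^ (2 * m + 1) - 1 := fun i hi => by
    have h1 : 2 ^ (i + 1) ≤ 2 ^ (2 * m + 1) := Nat.pow_le_pow_right (by norm_num) hi
    rw [pow_succ] at h1
    omega
  have hone : ∀ i, i < 2 * m + 1 → (∀ y : F, y ^ 2 ^ i = y ^ 2) → i = 1 := by
    intro i hi h2
    have h3 : g ^ 2 ^ i = g ^ 2 := Units.ext (by simpa using h2 g)
    have := pow_injOn_Iio_orderOf (x := g) (by rw [Set.mem_Iio, hord]; exact hlt i hi)
      (by rw [Set.mem_Iio, hord]; omega) h3
    exact Nat.pow_right_injective le_rfl (this.trans (pow_one 2).symm)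
  have h2j : ∀ y : F, y ^ 2 ^ (2 * (j : ℕ)) = y ^ 2 := fun y => by
    rw [← hσ y, hsig, hsig, ← pow_mul, ← pow_add, two_mul]
  have hjm : (j : ℕ) = m + 1 := by
    rcases Nat.lt_or_ge (2 * (j : ℕ)) (2 * m + 1) with hlo | hhi
    · have := hone _ hlo h2j
      omega
    · obtain ⟨i, hi⟩ := Nat.exists_eq_add_of_le hhi
      have := hone i (by omega) fun y => by
        rw [← h2j y, hi, pow_add, pow_mul, ← hF, FiniteField.pow_card]
      omega
  rw [hsig, hjm]
  rfl

variable {m : ℕ} (hm : 1 ≤ m) (hF : Fintype.card F = 2 ^ (2 * m + 1)) (φ : F ≃+* F)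
  (hφ : ∀ x, φ (φ (x * x)) = x)

/-- The ovoid point of given coordinates. -/
noncomputable def szPt (m : ℕ) (φ : F ≃+* F) : Option (F × F) ≃ Cfsg.suzukiOvoid F m :=
  Equiv.ofBijective
    (fun o => match o with
      | none => ⟨_, inf_mem_ovoid⟩
      | some (X, Y) => ⟨_, pt_mem_ovoid (φ X) (Y + X * φ X)⟩)
    (by
      refine ⟨fun a b h => ?_, fun ⟨p, hp⟩ => ?_⟩
      · match a, b, congrArg Subtype.val h with
        | none, none, _ => rfl
        | none, some (x, y), h => exact absurd h.symm (pt_ne_inf _ _)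
        | some (x, y), none, h => exact absurd h (pt_ne_inf _ _)
        | some (x, y), some (x', y'), h =>
          obtain ⟨h1, h2⟩ := pt_inj h
          obtain rfl := φ.injective h1
          rw [add_right_cancel h2]
      · rcases mem_ovoid.1 hp with rfl | ⟨x, y, rfl⟩
        · exact ⟨none, rfl⟩
        · refine ⟨some (φ.symm x, y - φ.symm x * x), Subtype.ext ?_⟩
          show pt m (φ (φ.symm x)) (y - φ.symm x * x + φ.symm x * φ (φ.symm x)) = pt m x y
          rw [φ.apply_symm_apply, sub_add_cancel])

theorem szPt_none : ((szPt m φ none : Cfsg.suzukiOvoid F m) : Projectivization F (Fin 4 → F)) =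
    Cfsg.suzukiPointInfinity F := rfl

theorem szPt_some (v : F × F) :
    ((szPt m φ (some v) : Cfsg.suzukiOvoid F m) : Projectivization F (Fin 4 → F)) =
      pt m (φ v.1) (v.2 + v.1 * φ v.1) := rfl

include hm hF hφ

theorem sig_phi (x : F) : sig m (φ x) = x := by
  rw [← symm_eq_sig hm hF φ hφ, φ.symm_apply_apply]

theorem phi_sq_eq (x : F) : φ (φ x) * φ (φ x) = x := by
  rw [← map_mul, ← map_mul, hφ]

/-- Root elements in coordinates. -/
theorem u_act (u : F × F) (v : Option (F × F)) :
    U hF (φ u.1) (u.2 + u.1 * φ u.1) • (szPt m φ v : Projectivization F (Fin 4 → F)) =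
      (szPt m φ (lmap φ 0 u v) : Projectivization F (Fin 4 → F)) := by
  rcases v with _ | v
  · exact U_smul_inf hF _ _
  · simp only [lmap, Option.map_some, szPt_some]
    rw [U_smul_pt, sig_phi hm hF φ hφ]
    simp only [pm, beta, map_add]
    congr 1
    · ring
    · linear_combination (-(φ u.1 * v.1)) * two_zero (F := F)

/-- Torus elements in coordinates. -/
theorem t_act (k : F) (hk : k ≠ 0) (v : Option (F × F)) :
    T hF (Units.mk0 (φ k) ((map_ne_zero φ).2 hk)) •
        (szPt m φ v : Projectivization F (Fin 4 → F)) =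
      (szPt m φ (kmap φ k v) : Projectivization F (Fin 4 → F)) := by
  rcases v with _ | v
  · exact T_smul_inf hF _
  · simp only [kmap, Option.map_some, szPt_some]
    rw [T_smul_pt, Units.val_mk0, sig_phi hm hF φ hφ]
    simp only [psi, map_mul]
    congr 1
    ring

/-- The permutation induced by the swapping involution. -/
noncomputable def szT (m : ℕ) (hF : Fintype.card F = 2 ^ (2 * m + 1)) (φ : F ≃+* F)
    (v : Option (F × F)) : Option (F × F) :=
  (szPt m φ).symm ⟨W hF • (szPt m φ v : Projectivization F (Fin 4 → F)),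
    smul_mem_ovoid (W hF) (szPt m φ v).2⟩

omit hm hφ in
theorem w_act (v : Option (F × F)) :
    W hF • (szPt m φ v : Projectivization F (Fin 4 → F)) =
      (szPt m φ (szT m hF φ v) : Projectivization F (Fin 4 → F)) := by
  rw [szT, Equiv.apply_symm_apply]

omit hm hφ in
theorem coe_inj {v w : Option (F × F)}
    (h : (szPt m φ v : Projectivization F (Fin 4 → F)) = szPt m φ w) : v = w :=
  (szPt m φ).injective (Subtype.ext h)

omit hm hφ in
theorem structure_eq : W hF * U hF 0 1 * W hF = U hF 1 0 * W hF * U hF 1 1 := by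
  apply Subtype.ext
  apply Subtype.ext
  change (wel F : Matrix (Fin 4) (Fin 4) F) * umat m 0 1 * (wel F : Matrix (Fin 4) (Fin 4) F) =
    umat m 1 0 * (wel F : Matrix (Fin 4) (Fin 4) F) * umat m 1 1
  ext i j
  fin_cases i <;> fin_cases j <;>
    simp [wel, umat, fz, sig_zero, sig_one, Matrix.mul_apply, Fin.sum_univ_four,
      CharTwo.add_self_eq_zero]

theorem szModel (hbij : Function.Bijective (psi φ)) : Model φ 0 1 (szT m hF φ) := by
  refine ⟨one_ne_zero, fun v => ?_, ?_, fun k hk v => ?_, fun v => ?_, fun v => ?_, hbij.1, hbij.2⟩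
  · refine coe_inj hF φ ?_
    rw [← w_act, ← w_act, ← mul_smul, W_mul_W, one_smul]
  · refine coe_inj hF φ ?_
    rw [← w_act, szPt_none, W_smul_inf, szPt_some]
    simp
  · refine coe_inj hF φ ?_
    rw [← w_act, ← t_act hm hF φ hφ k hk, ← t_act hm hF φ hφ k⁻¹ (inv_ne_zero hk), ← w_act,
      ← mul_smul, ← mul_smul, W_mul_T]
    congr 3
    exact Units.ext (by simp)
  · refine coe_inj hF φ ?_
    rw [← w_act, ← u_act hm hF φ hφ, ← w_act, ← u_act hm hF φ hφ, ← w_act, ← u_act hm hF φ hφ,
      ← mul_smul, ← mul_smul, ← mul_smul, ← mul_smul]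
    simp only [map_zero, map_one, mul_one, mul_zero, zero_add, add_zero, CharTwo.add_self_eq_zero]
    rw [structure_eq hF]
  · constructor
    · intro h
      have h' := congrArg (fun w => (szPt m φ w : Projectivization F (Fin 4 → F))) h
      simp only [← w_act] at h'
      rcases v with _ | ⟨X, Y⟩
      · rw [szPt_none, W_smul_inf] at h'
        exact absurd h' (pt_ne_inf _ _)
      rw [szPt_some] at h'
      set x := φ X with hx
      set y := Y + X * x with hy
      by_cases hf : fz m x y = 0
      · obtain ⟨h1, h2⟩ := (fz_eq_zero hF).1 hf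
        rw [h1, h2, W_smul_zero] at h'
        exact absurd h'.symm (pt_ne_inf _ _)
      change wel F • pt m x y = pt m x y at h'
      rw [wel_smul_pt hF hf] at h'
      obtain ⟨e1, e2⟩ := pt_inj h'
      rw [div_eq_iff hf] at e1 e2
      have hx0 : x ≠ 0 := by
        intro h0
        rw [h0, zero_mul] at e1
        exact hf ((fz_eq_zero hF).2 ⟨h0, e1⟩)
      have hf1 : fz m x y = 1 := by
        have : x * 1 = x * (fz m x y * fz m x y) := by
          rw [mul_one]
          calc x = y * fz m x y := e2
            _ = x * fz m x y * fz m x y := by rw [← e1]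
            _ = x * (fz m x y * fz m x y) := mul_assoc _ _ _
        rcases mul_self_eq_one_iff.1 (mul_left_cancel₀ hx0 this).symm with h | h
        · exact h
        · exact h.trans (CharTwo.neg_eq 1)
      have hyx : y = x := by rw [e1, hf1, mul_one]
      have hx1 : x = 1 := by
        rw [hyx] at hf1
        have : (x * x + 1) * (sig m x + 1) = 0 := by
          simp only [fz] at hf1
          linear_combination hf1 + two_zero (F := F)
        rcases mul_eq_zero.1 this with h | h
        · rcases mul_self_eq_one_iff.1 (eq_of_add h) with h | h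
          · exact h
          · exact h.trans (CharTwo.neg_eq 1)
        · refine sig_injective hF ?_
          rw [sig_one]; exact eq_of_add h
      have hX : X = 1 := by
        apply φ.injective
        rw [map_one, ← hx, hx1]
      have hY : Y = 0 := by
        have h3 : y = Y + X * x := hy
        rw [hyx, hX, hx1] at h3
        linear_combination -h3
      rw [hX, hY]
    · rintro rfl
      refine coe_inj hF φ ?_
      rw [← w_act, szPt_some]
      have hf : fz m (1 : F) 1 = 1 := by
        simp only [fz, mul_one, sig_one, one_pow]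
        linear_combination two_zero (F := F)
      simp only [map_one, mul_one, zero_add]
      change wel F • pt m (1 : F) 1 = _
      rw [wel_smul_pt hF (by rw [hf]; exact one_ne_zero), hf, div_one]

end Cfsg.Agent.CharDeep.SzUniq
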