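import Cfsg.Agent.CharDeep.SzUniq.Coord
import Cfsg.Agent.CharDeep.SzUniq.Sz
import Cfsg.Agent.Lib.Zassenhaus.TwoKernelMain
import Cfsg.Agent.Lib.RankOne.SzBridge

/-!
# A simple Zassenhaus group with a non-abelian 2-group as kernel is a Suzuki group
-/

set_option autoImplicit false

namespace Cfsg.Agent.CharDeep.SzUniq

open MulAction
open Cfsg.Agent.ZassNormal

section perm

variable {F : Type*} [Field F] (φ : F ≃+* F) (η : F)

/-- The three kinds of permutations. -/
def gens (t : Option (F × F) → Option (F × F)) : Set (Equiv.Perm (Option (F × F))) :=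
  {p | (∃ u, ⇑p = lmap φ η u) ∨ (∃ k : F, k ≠ 0 ∧ ⇑p = kmap φ k) ∨ ⇑p = t}

variable {φ η}

/-- The image of a permutation representation. -/
theorem range_eq {G : Type*} [Group G] {t : Option (F × F) → Option (F × F)}
    (ρ : G →* Equiv.Perm (Option (F × F)))
    (hgen : ∀ g, ρ g ∈ Subgroup.closure (gens φ η t))
    (hu : ∀ u, ∃ g, ⇑(ρ g) = lmap φ η u) (hk : ∀ k : F, k ≠ 0 → ∃ g, ⇑(ρ g) = kmap φ k)
    (ht : ∃ g, ⇑(ρ g) = t) : ρ.range = Subgroup.closure (gens φ η t) := by
  refine le_antisymm (fun p ⟨g, hg⟩ => hg ▸ hgen g) ((Subgroup.closure_le _).2 ?_)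
  rintro p (⟨u, h⟩ | ⟨k, hk0, h⟩ | h)
  · obtain ⟨g, hg⟩ := hu u; exact ⟨g, DFunLike.coe_injective (hg.trans h.symm)⟩
  · obtain ⟨g, hg⟩ := hk k hk0; exact ⟨g, DFunLike.coe_injective (hg.trans h.symm)⟩
  · obtain ⟨g, hg⟩ := ht; exact ⟨g, DFunLike.coe_injective (hg.trans h.symm)⟩

/-- A permutation representation of a simple group that moves a point is faithful. -/
theorem injective_of_simple {G : Type*} [Group G] [IsSimpleGroup G] {α : Type*}
    (ρ : G →* Equiv.Perm α) (h : ∃ g, ρ g ≠ 1) : Function.Injective ρ := by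
  rcases IsSimpleGroup.eq_bot_or_eq_top_of_normal ρ.ker inferInstance with hb | ht
  · exact (MonoidHom.ker_eq_bot_iff ρ).1 hb
  · obtain ⟨g, hg⟩ := h
    exact absurd (MonoidHom.mem_ker.1 (ht ▸ Subgroup.mem_top g)) hg

/-- The permutation representation transported along a bijection. -/
def repOf {G Ω α : Type*} [Group G] [MulAction G Ω] (e : α ≃ Ω) : G →* Equiv.Perm α where
  toFun g := (e.trans (MulAction.toPerm g)).trans e.symm
  map_one' := Equiv.ext fun x => by simp
  map_mul' g h := Equiv.ext fun x => by simp [mul_smul]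

theorem repOf_eq {G Ω α : Type*} [Group G] [MulAction G Ω] (e : α ≃ Ω) (g : G) (f : α → α)
    (h : ∀ x, g • e x = e (f x)) : ⇑(repOf (G := G) e g) = f := by
  funext x
  show e.symm (g • e x) = f x
  rw [h, e.symm_apply_apply]

theorem repOf_spec {G Ω α : Type*} [Group G] [MulAction G Ω] (e : α ≃ Ω) (g : G) (x : α) :
    g • e x = e (repOf (G := G) e g x) := (e.apply_symm_apply _).symm

end perm

section group

variable {G Ω : Type*} [Group G] [Fintype G] [DecidableEq G] [MulAction G Ω] [Fintype Ω]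
  [DecidableEq Ω] (hZ : Cfsg.IsZassenhausGroup G Ω) {a b : Ω} (hab : a ≠ b) {U : Subgroup G}
  (hU : Zass.IsKernel a U) [IsSimpleGroup G] (h2 : IsPGroup 2 U)
  (hna : ∃ u v : U, u * v ≠ v * u)

include hZ hab hU h2 hna

/-- A simple Zassenhaus group with non-abelian 2-kernel, as a permutation group in coordinates. -/
theorem exists_model :
    ∃ (F : Type) (_ : Field F) (_ : Fintype F) (_ : CharP F 2) (m : ℕ) (φ : F ≃+* F) (η ε : F)
      (t : Option (F × F) → Option (F × F)),
      1 ≤ m ∧ Fintype.card F = 2 ^ (2 * m + 1) ∧ Model φ η ε t ∧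
      ∃ ρ : G →* Equiv.Perm (Option (F × F)), Function.Injective ρ ∧
        ρ.range = Subgroup.closure (gens φ η t) := by
  classical
  obtain ⟨m, hm, hΩ, he, hsq, hz, hG⟩ := TwoKer.numerics hZ hab hU h2 hna
  obtain ⟨-, -, -, -, hmem⟩ := TwoKer.kernel_structure hZ hab hU h2 hna
  have hodd := TwoKer.odd_two hZ hab hU h2
  have hn := TwoKer.odd_card hZ hab hU h2
  have := Zass.isCyclic_two hZ hab hU hodd
  -- the frame
  let Φ : Zass.two G a b →* MulAut U :=
    { toFun := fun x => conjKer hZ hU (x : G) x.2.1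
      map_one' := MulEquiv.ext fun u => Subtype.ext (by simp [conjKer])
      map_mul' := fun x y => MulEquiv.ext fun u => Subtype.ext (by
        show ((x : G) * y) * u * ((x : G) * y)⁻¹
          = (x : G) * ((y : G) * u * (y : G)⁻¹) * (x : G)⁻¹
        group) }
  obtain ⟨-, -, -, htwo, -, -, -⟩ := TwoKer.isSuzukiTwoGroup hZ hab hU h2 hna
  have hinvA : ∀ x : U, x ≠ 1 → x * x = 1 → (x : G) ∈ Zass.invAt G a := fun x hx hx' =>
    (TwoKer.invol_iff hZ hab hU h2).1
      ⟨x.2, fun h => hx (Subtype.ext h), congrArg Subtype.val hx'⟩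
  obtain ⟨F, i1, i2, i3, fr, hq4, hall⟩ := SuzukiTwo.exists_frame_of h2 htwo Φ.range
    (isCyclic_of_surjective Φ.rangeRestrict Φ.rangeRestrict_surjective) (by
      intro x y hx1 hx2 hy1 hy2
      obtain ⟨t, ht, hty⟩ :=
        Zass.invAt_conj hZ hab hodd hn (hinvA x hx1 hx2) (hinvA y hy1 hy2)
      refine ⟨⟨Φ ⟨t, ht⟩, ⟨t, ht⟩, rfl⟩, Subtype.ext hty, ?_⟩
      rintro ⟨_, s, rfl⟩ hs
      refine Subtype.ext ?_
      have : (s : G) = t := Zass.conj_injOn hZ hab hodd hn (hinvA x hx1 hx2) s.2 ht
        ((congrArg Subtype.val hs).trans hty.symm)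
      show Φ s = Φ ⟨t, ht⟩
      rw [show s = (⟨t, ht⟩ : Zass.two G a b) from Subtype.ext this])
  obtain ⟨u0, hu0⟩ : ∃ u : Fˣ, u ≠ 1 :=
    Fintype.exists_ne_of_one_lt_card (by rw [Fintype.card_units]; omega) 1
  have hFc : Fintype.card F = 2 ^ (2 * m + 1) := by rw [← fr.card_center h2 hna hu0, hz]
  have hUc : Nat.card U = Fintype.card F ^ 2 := by
    rw [hsq, fr.card_center h2 hna hu0]
  -- every automorphism of the frame is a conjugation
  choose vΦ hvΦ using fun x : Zass.two G a b => hall (Φ x) ⟨x, rfl⟩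
  have hΦinj : Function.Injective Φ := by
    intro x y hxy
    obtain ⟨z, hz', hz1⟩ := (Subgroup.center U).bot_or_exists_ne_one.resolve_left fun h => by
      rw [h, Subgroup.card_bot] at hz
      have := Nat.lt_two_pow_self (n := 2 * m + 1)
      omega
    refine Subtype.ext (Zass.conj_injOn hZ hab hodd hn (hinvA z hz1 ((hmem z).1 hz')) x.2 y.2 ?_)
    exact congrArg Subtype.val (DFunLike.congr_fun hxy z)
  have hvsurj : Function.Surjective vΦ := by
    refine ((Fintype.bijective_iff_injective_and_card _).2 ⟨fun x y h => hΦinj ?_, ?_⟩).2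
    · rw [← hvΦ, ← hvΦ, h]
    · rw [Fintype.card_units, hFc, ← Nat.card_eq_fintype_card]
      omega
  -- the swapping involution and its fixed point
  obtain ⟨t, htI, hta, htb⟩ : ∃ t, t ∈ Zass.invs G ∧ t • a = b ∧ t • b = a := by
    obtain ⟨t, ht⟩ := Zass.invSwap_nonempty hZ hab hodd
    exact ⟨t, (Zass.mem_invSwap.1 ht).1, (Zass.mem_invSwap.1 ht).2⟩
  have htt := (Zass.mem_invs.1 htI).2
  have ht1 := (Zass.mem_invs.1 htI).1
  have htinv : t⁻¹ = t := inv_eq_of_mul_eq_one_right htt
  obtain ⟨cpt, hcpt⟩ : ∃ cpt, t • cpt = cpt := by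
    have := Zass.inv_nfix hZ hab hodd htI
    rw [if_pos hn] at this
    obtain ⟨d, hd⟩ := Finset.card_eq_one.1 this
    exact ⟨d, by simpa using Finset.ext_iff.1 hd d⟩
  have hca : cpt ≠ a := fun h => hab (by rw [h] at hcpt; rw [hcpt] at hta; exact hta)
  have hUa : ∀ u : U, (u : G) • a = a := fun u => mem_stabilizer_iff.1 (hU.le u.2)
  have hUinj : ∀ u v : U, (u : G) • b = (v : G) • b → u = v := fun u v h => by
    by_contra hne
    refine hab (hU.fix _ (u⁻¹ * v).2 (fun e => hne ?_) b ?_).symm
    · exact inv_mul_eq_one.1 (Subtype.ext e)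
    · rw [Subgroup.coe_mul, Subgroup.coe_inv, mul_smul, ← h, inv_smul_smul]
  have hUsurj : ∀ p, p ≠ a → ∃ u : U, (u : G) • b = p := by
    intro p hp
    have := Fintype.ofFinite U
    let f : U → {p : Ω // p ≠ a} := fun u => ⟨(u : G) • b, fun h => hab
      (MulAction.injective (u : G) (h.trans (hUa u).symm)).symm⟩
    have hb : Function.Bijective f := by
      rw [Fintype.bijective_iff_injective_and_card]
      refine ⟨fun u v h => hUinj u v (congrArg Subtype.val h), ?_⟩
      rw [Fintype.card_subtype_compl, Fintype.card_subtype_eq, ← hU.card, Nat.card_eq_fintype_card]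
      omega
    obtain ⟨u, hu⟩ := hb.2 ⟨p, hp⟩
    exact ⟨u, congrArg Subtype.val hu⟩
  obtain ⟨r, hr⟩ := hUsurj cpt hca
  -- `t` inverts the two-point stabiliser
  have hinv : ∀ x ∈ Zass.two G a b, t * x * t = x⁻¹ := by
    intro x hx
    have hx' : t * x * t ∈ Zass.two G a b := Zass.mem_two.2
      ⟨by rw [mul_smul, mul_smul, hta, hx.2, htb], by rw [mul_smul, mul_smul, htb, hx.1, hta]⟩
    have hcomm : x * (t * x * t) = (t * x * t) * x := by
      have := IsMulCommutative.is_comm.comm (⟨x, hx⟩ : Zass.two G a b) ⟨_, hx'⟩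
      exact congrArg Subtype.val this
    set y := x * (t * x * t) with hy
    have hyt : t * y * t = y := by
      calc t * y * t = (t * x * t) * x * (t * t) := by rw [hy]; group
        _ = y := by rw [htt, mul_one, hcomm]
    have hy1 : y = 1 := by
      by_contra hne
      have hyD : y ∈ Zass.two G a b := mul_mem hx hx'
      have hfix : t • (y • cpt) = y • cpt := by
        rw [← mul_smul, show t * y = y * t by
          calc t * y = t * y * (t * t) := by rw [htt, mul_one]
            _ = t * y * t * t := by group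
            _ = y * t := by rw [hyt], mul_smul, hcpt]
      have hyc : y • cpt = cpt := Zass.fix_unique hZ hab hodd htI hfix hcpt
      rcases Zass.fixed_of_mem_two hZ hab hyD hne hyc with h | h
      · exact hca h
      · rw [h, htb] at hcpt; exact hab hcpt
    exact (inv_eq_of_mul_eq_one_right hy1).symm
  -- the element `r` is not central
  have hconjfix : ((r : G)⁻¹ * t * r) • b = b := by
    rw [mul_smul, mul_smul, hr, hcpt, ← hr, inv_smul_smul]
  have hrZ : r ∉ Subgroup.center U := by
    intro hrc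
    have hrr : (r : G) * r = 1 := congrArg Subtype.val ((hmem r).1 hrc)
    have hr1 : r ≠ 1 := fun h => by
      rw [h, Subgroup.coe_one, one_smul] at hr
      rw [← hr, htb] at hcpt
      exact hab hcpt
    have hrA := hinvA r hr1 (Subtype.ext hrr)
    simp only [Zass.invAt, Finset.mem_filter] at hrA
    -- `t r t` and `r t r` are involutions fixing `b` and moving `a` alike
    have h3 : ¬ 3 ∣ Nat.card G := by
      rw [hG]
      have hmod : 2 ^ (2 * m + 1) % 3 = 2 := by
        rw [pow_succ, pow_mul, Nat.mul_mod, Nat.pow_mod]; norm_num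
      intro hdvd
      rcases (Nat.Prime.dvd_mul Nat.prime_three).1 hdvd with h | h
      · rcases (Nat.Prime.dvd_mul Nat.prime_three).1 h with h | h
        · have := Nat.Prime.dvd_of_dvd_pow Nat.prime_three h
          omega
        · rw [Nat.dvd_iff_mod_eq_zero, Nat.add_mod, Nat.pow_mod, hmod] at h
          norm_num at h
      · have := Nat.one_le_two_pow (n := 2 * m + 1)
        omega
    have hx1 : (t * r * t) • b = b := by rw [mul_smul, mul_smul, htb, hUa, hta]
    have hx2 : ((r : G) * t * r) • b = b := by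
      rw [← inv_eq_of_mul_eq_one_right hrr] at hconjfix ⊢
      simpa only [inv_inv, inv_eq_of_mul_eq_one_right hrr] using hconjfix
    have ha1 : (t * r * t) • a = cpt → True := fun _ => trivial
    -- both are conjugate to involutions fixing `a`
    have hA : ∀ x : G, x * x = 1 → x ≠ 1 → x • b = b →
        ∃ u : U, u ≠ 1 ∧ u * u = 1 ∧ t * x * t = u := by
      intro x hx hx1' hxb
      have hy : t * x * t ∈ Zass.invAt G a := by
        simp only [Zass.invAt, Finset.mem_filter, Zass.mem_invs]
        refine ⟨⟨fun h => hx1' ?_, ?_⟩, by rw [mul_smul, mul_smul, hta, hxb, htb]⟩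
        · calc x = (t * t) * x * (t * t) := by rw [htt, one_mul, mul_one]
            _ = t * (t * x * t) * t := by group
            _ = 1 := by rw [h, mul_one, htt]
        · calc t * x * t * (t * x * t) = t * x * (t * t) * x * t := by group
            _ = 1 := by rw [htt, mul_one, mul_assoc t x x, hx, mul_one, htt]
      obtain ⟨h1, h2', h3'⟩ := (TwoKer.invol_iff hZ hab hU h2).2 hy
      exact ⟨⟨_, h1⟩, fun h => h2' (congrArg Subtype.val h), Subtype.ext h3', rfl⟩
    obtain ⟨u, hu1, -, hu⟩ := hA ((r : G) * t * r)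
      (by
        calc (r : G) * t * r * (r * t * r) = r * t * (r * r) * t * r := by group
          _ = 1 := by rw [hrr, mul_one, mul_assoc (r : G) t t, htt, mul_one, hrr])
      (fun h => ht1 (by
        calc t = ((r : G) * r) * t * (r * r) := by rw [hrr, one_mul, mul_one]
          _ = r * (r * t * r) * r := by group
          _ = 1 := by rw [h, mul_one, hrr])) hx2
    -- compare the images of `b` under `u` and `r`
    have hub : (u : G) • b = cpt := by
      rw [← hu, mul_smul, mul_smul, htb, mul_smul, mul_smul, hUa, hta, hr, hcpt]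
    have hur : u = r := hUinj u r (hub.trans hr.symm)
    rw [hur] at hu
    have hcube : (t * r) ^ 3 = 1 := by
      calc (t * r) ^ 3 = t * ((r : G) * t * r) * t * r := by rw [pow_succ, pow_two]; group
        _ = 1 := by rw [hu, hrr]
    have htr : t * r = 1 := by
      by_contra hne
      haveI := Fact.mk Nat.prime_three
      exact h3 ((orderOf_eq_prime hcube hne) ▸ orderOf_dvd_natCard _)
    rw [mul_eq_one_iff_eq_inv] at htr
    rw [htr] at hta
    exact hab ((inv_smul_eq_iff.2 (hUa r).symm).symm.trans hta)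
  -- coordinates
  obtain ⟨φ, η, el, hel, helmul, helr, hψ, helact⟩ :=
    exists_coords fr h2 hna hu0 hq4 hUc hrZ
  have hel0 : el (0, 0) = 1 := by
    have := helmul (0, 0) (0, 0)
    simp only [pm, beta, map_zero, mul_zero, add_zero, zero_mul] at this
    exact left_eq_mul.1 this
  let e : Option (F × F) ≃ Ω := Equiv.ofBijective
    (fun o => match o with
      | none => a
      | some v => (el v : G) • b)
    (by
      refine ⟨fun x y h => ?_, fun p => ?_⟩
      · match x, y, h with
        | none, none, _ => rfl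
        | none, some v, h =>
          exact absurd (MulAction.injective (el v : G) ((hUa (el v)).trans h)) hab
        | some v, none, h =>
          exact absurd (MulAction.injective (el v : G) (h.trans (hUa (el v)).symm)).symm hab
        | some v, some w, h => rw [hel.1 (hUinj _ _ h)]
      · by_cases hp : p = a
        · exact ⟨none, hp.symm⟩
        · obtain ⟨u, hu⟩ := hUsurj p hp
          obtain ⟨v, rfl⟩ := hel.2 u
          exact ⟨some v, hu⟩)
  have he_none : e none = a := rfl
  have he_some : ∀ v, e (some v) = (el v : G) • b := fun v => rfl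
  let ρ : G →* Equiv.Perm (Option (F × F)) := repOf e
  have hρU : ∀ u, ⇑(ρ (el u : G)) = lmap φ η u := fun u => repOf_eq e _ _ fun x => by
    rcases x with _ | v
    · exact hUa _
    · simp only [lmap, Option.map_some, he_some, helmul, Subgroup.coe_mul, mul_smul]
  have hD : ∀ k : F, k ≠ 0 → ∃ x ∈ Zass.two G a b, ⇑(ρ x) = kmap φ k := fun k hk => by
    obtain ⟨u, hu⟩ := helact k hk
    obtain ⟨x, hx⟩ := hvsurj u
    refine ⟨x, x.2, repOf_eq e _ _ fun o => ?_⟩
    rcases o with _ | v
    · exact x.2.1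
    · simp only [kmap, Option.map_some, he_some]
      rw [← hu v, ← hx, hvΦ]
      show (x : G) • (el v : G) • b = ((x : G) * el v * (x : G)⁻¹) • b
      rw [mul_smul, mul_smul, inv_smul_eq_iff.2 x.2.2.symm]
  let tf : Option (F × F) → Option (F × F) := ⇑(ρ t)
  have htf : ∀ o, t • e o = e (tf o) := fun o => repOf_spec e t o
  -- the structure equation
  obtain ⟨s, hs1, hs2, hs⟩ : ∃ s : U, s ≠ 1 ∧ s * s = 1 ∧
      t * ((r : G)⁻¹ * t * r) * t = s := by
    have hy : t * ((r : G)⁻¹ * t * r) * t ∈ Zass.invAt G a := by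
      simp only [Zass.invAt, Finset.mem_filter, Zass.mem_invs]
      refine ⟨⟨fun h => ht1 ?_, ?_⟩, by rw [mul_smul, mul_smul, hta, hconjfix, htb]⟩
      · calc t = (r : G) * (t * t) * ((r : G)⁻¹ * t * r) * (t * t) * (r : G)⁻¹ := by
              rw [htt]; group
          _ = r * t * (t * ((r : G)⁻¹ * t * r) * t) * t * (r : G)⁻¹ := by group
          _ = 1 := by rw [h, mul_one, mul_assoc (r : G) t t, htt, mul_one, mul_inv_cancel]
      · calc t * ((r : G)⁻¹ * t * r) * t * (t * ((r : G)⁻¹ * t * r) * t)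
              = t * ((r : G)⁻¹ * t * r) * (t * t) * ((r : G)⁻¹ * t * r) * t := by group
          _ = t * (((r : G)⁻¹ * t * r) * ((r : G)⁻¹ * t * r)) * t := by rw [htt]; group
          _ = t * ((r : G)⁻¹ * (t * t) * r) * t := by group
          _ = 1 := by rw [htt, mul_one, inv_mul_cancel, mul_one, htt]
    obtain ⟨h1, h2', h3'⟩ := (TwoKer.invol_iff hZ hab hU h2).2 hy
    exact ⟨⟨_, h1⟩, fun h => h2' (congrArg Subtype.val h), Subtype.ext h3', rfl⟩
  obtain ⟨⟨X, ε⟩, rfl⟩ := hel.2 s
  have hX : X = 0 := by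
    rw [← helmul, ← hel0] at hs2
    have := congrArg Prod.snd (hel.1 hs2)
    simp only [pm, beta] at this
    by_contra hne
    refine psi_ne φ hne ?_
    simp only [psi]
    linear_combination this - (ε + η * (X * φ X)) * two_zero (F := F)
  subst hX
  have hrinv : (r : G)⁻¹ = el (1, 1) := by
    rw [← helr, ← Subgroup.coe_inv, inv_eq_of_mul_eq_one_right (b := el (1, 1))]
    rw [← helmul, ← hel0]
    congr 1
    simp only [pm, beta, map_one, CharTwo.add_self_eq_zero, Prod.mk.injEq, true_and]
    linear_combination (1 + η) * two_zero (F := F)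
  have hmodel : Model φ η ε tf := by
    refine ⟨?_, fun o => ?_, ?_, fun k hk o => ?_, fun o => ?_, fun o => ?_, hψ.1, hψ.2⟩
    · rintro rfl
      exact hs1 hel0
    · apply e.injective
      rw [← htf, ← htf, ← mul_smul, htt, one_smul]
    · apply e.injective
      rw [← htf, he_none, hta, he_some, hel0, Subgroup.coe_one, one_smul]
    · obtain ⟨x, hxD, hx⟩ := hD k hk
      have hxi : ⇑(ρ x⁻¹) = kmap φ k⁻¹ := by
        funext o
        have : ρ x (kmap φ k⁻¹ o) = o := by
          rw [hx, kmap_kmap, mul_inv_cancel₀ hk, kmap_one]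
        conv_lhs => rw [← this]
        rw [← Equiv.Perm.mul_apply, ← map_mul, inv_mul_cancel, map_one, Equiv.Perm.one_apply]
      rw [← hx, ← hxi]
      show (ρ t) (ρ x o) = ρ x⁻¹ (ρ t o)
      rw [← Equiv.Perm.mul_apply, ← Equiv.Perm.mul_apply, ← map_mul, ← map_mul]
      congr 2
      rw [← hinv x hxD, mul_assoc (t * x) t t, htt, mul_one]
    · rw [← hρU, ← hρU, ← hρU, ← hrinv, helr]
      show (ρ t * ρ (el (0, ε) : G) * ρ t) o = (ρ (r : G)⁻¹ * ρ t * ρ (r : G)) o
      rw [← map_mul, ← map_mul, ← map_mul, ← map_mul, ← hs]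
      congr 2
      calc t * (t * ((r : G)⁻¹ * t * r) * t) * t = (t * t) * ((r : G)⁻¹ * t * r) * (t * t) := by group
        _ = _ := by rw [htt, one_mul, mul_one]
    · constructor
      · intro h
        have h1 : t • e o = e o := by rw [htf, h]
        apply e.injective
        rw [he_some, helr, hr]
        exact Zass.fix_unique hZ hab hodd htI h1 hcpt
      · rintro rfl
        apply e.injective
        rw [← htf, he_some, helr, hr, hcpt]
  refine ⟨F, i1, i2, i3, m, φ, η, ε, tf, hm, hFc, hmodel, ρ,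
    injective_of_simple ρ ⟨t, fun h => ?_⟩, range_eq ρ ?_ (fun u => ⟨_, hρU u⟩)
      (fun k hk => (hD k hk).imp fun x hx => hx.2) ⟨t, rfl⟩⟩
  · have := hmodel.t_none
    simp only [tf, h, Equiv.Perm.one_apply, reduceCtorEq] at this
  · set S := Subgroup.closure (gens φ η tf)
    have hUS : ∀ u : U, ρ (u : G) ∈ S := fun u => by
      obtain ⟨v, rfl⟩ := hel.2 u
      exact Subgroup.subset_closure (Or.inl ⟨v, hρU v⟩)
    have htS : ρ t ∈ S := Subgroup.subset_closure (Or.inr (Or.inr rfl))
    have hDS : ∀ x ∈ Zass.two G a b, ρ x ∈ S := by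
      intro x hx
      -- every element of the two-point stabiliser is one of the scalings
      obtain ⟨u, hu⟩ : ∃ u, vΦ ⟨x, hx⟩ = u := ⟨_, rfl⟩
      obtain ⟨w, hw⟩ := hel.2 (Φ ⟨x, hx⟩ (el (1, 0)))
      rcases eq_or_ne w.1 0 with hw0 | hw0
      · exfalso
        refine hrZ ((hmem r).2 ?_)
        rw [← helr]
        apply (Φ ⟨x, hx⟩).injective
        rw [map_mul, map_one, ← hw, ← helmul, ← hel0]
        congr 1
        simp [pm, beta, hw0, CharTwo.add_self_eq_zero]
      obtain ⟨u', hu'⟩ := helact w.1 hw0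
      obtain ⟨x', hx'⟩ := hvsurj u'
      have hD' : ⇑(ρ (x' : G)) = kmap φ w.1 := repOf_eq e _ _ fun o => by
        rcases o with _ | v
        · exact x'.2.1
        · simp only [kmap, Option.map_some, he_some]
          rw [← hu' v, ← hx', hvΦ]
          show (x' : G) • (el v : G) • b = ((x' : G) * el v * (x' : G)⁻¹) • b
          rw [mul_smul, mul_smul, inv_smul_eq_iff.2 x'.2.2.symm]
      -- `x` and `x'` agree on `e (1, 0)` up to the centre, hence coincide
      have hxx : (⟨x, hx⟩ : Zass.two G a b) = x' := by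
        by_contra hne
        have hq : x'⁻¹ * (⟨x, hx⟩ : Zass.two G a b) ≠ 1 := fun h => hne (inv_mul_eq_one.1 h).symm
        have h1 : fr.act (vΦ (x'⁻¹ * ⟨x, hx⟩)) (el (1, 0)) =
            fr.act u'⁻¹ (el w) := by
          rw [hvΦ, map_mul, MulAut.mul_apply, ← hw, map_inv, ← hvΦ x', hx', ← map_inv]
        have h2' : fr.act u' (el (1, 0)) = el (w.1, 0) := by
          rw [hu']; simp
        have h3 : el w = el (w.1, 0) * el (0, w.2) := by
          rw [← helmul]; simp [pm, beta]
        have hcz : el (0, w.2) ∈ Subgroup.center U := (hmem _).2 (by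
          rw [← helmul, ← hel0]; congr 1; simp [pm, beta, CharTwo.add_self_eq_zero])
        rw [h3, map_mul, ← h2', fr.act_inv_act] at h1
        set v := vΦ (x'⁻¹ * ⟨x, hx⟩) with hv
        have hv1 : v ≠ 1 := fun h => hq (hΦinj (by rw [← hvΦ, ← hv, h, map_one, map_one]))
        refine hrZ (helr ▸ fr.mem_of_coset_fixed h2 hv1
          (fun q y hy => fr.center_inv q y hy) ?_)
        rw [h1, inv_mul_cancel_left]
        exact fr.center_inv _ _ hcz
      refine Subgroup.subset_closure (Or.inr (Or.inl ⟨w.1, hw0, ?_⟩))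
      rw [← hD', ← hxx]
    have hstab : ∀ g : G, g • a = a → ρ g ∈ S := by
      intro g hg
      have hgb : g • b ≠ a := fun h => hab (MulAction.injective g (h.trans hg.symm)).symm
      obtain ⟨u, hu⟩ := hUsurj _ hgb
      have hx : (u : G)⁻¹ * g ∈ Zass.two G a b := Zass.mem_two.2
        ⟨by rw [mul_smul, hg, inv_smul_eq_iff, hUa], by rw [mul_smul, ← hu, inv_smul_smul]⟩
      have := mul_mem (hUS u) (hDS _ hx)
      rwa [← map_mul, mul_inv_cancel_left] at this
    intro g
    by_cases hga : g • a = a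
    · exact hstab g hga
    obtain ⟨u, hu⟩ := hUsurj _ hga
    have := mul_mem (mul_mem (hUS u) htS) (hstab (((u : G) * t)⁻¹ * g)
      (by rw [mul_smul, inv_smul_eq_iff, mul_smul, hta, hu]))
    rwa [← map_mul, ← map_mul, mul_inv_cancel_left] at this

end group

/-- **Uniqueness of the Suzuki groups.** -/
theorem isoSuzuki {G Ω : Type*} [Group G] [Finite G] [MulAction G Ω] [Finite Ω]
    (hZ : Cfsg.IsZassenhausGroup G Ω) [IsSimpleGroup G] {a b : Ω} (hab : a ≠ b) {U : Subgroup G}
    (hU : ∀ [Fintype Ω], Zass.IsKernel a U) (h2 : IsPGroup 2 U)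
    (hna : ∃ u v : U, u * v ≠ v * u) : Cfsg.Lie.IsoSuzuki G := by
  classical
  have := Fintype.ofFinite G
  have := Fintype.ofFinite Ω
  obtain ⟨F, i1, i2, i3, m, φ0, η, ε, t, hm, hFc, hM, ρ, hρinj, hρ⟩ :=
    exists_model hZ hab hU h2 hna
  have hex : ∃ x : F, x ≠ 0 ∧ x ≠ 1 := by
    obtain ⟨k, hk0, hk1⟩ := Suzuki.exists_ne_zero_one hFc hm
    exact ⟨k, hk0, hk1⟩
  obtain ⟨hη, hε⟩ := eta_eps hM hex
  subst hε
  -- normalise to `η = 0`
  obtain ⟨φ, t, ρ, hM, hρinj, hρ⟩ : ∃ (φ : F ≃+* F) (t : Option (F × F) → Option (F × F))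
      (ρ : G →* Equiv.Perm (Option (F × F))), Model φ 0 1 t ∧ Function.Injective ρ ∧
        ρ.range = Subgroup.closure (gens φ 0 t) := by
    rcases hη with rfl | rfl
    · exact ⟨φ0, t, ρ, hM, hρinj, hρ⟩
    -- change coordinates by the automorphism
    let c : Option (F × F) ≃ Option (F × F) := (φ0.toEquiv.prodCongr (Equiv.refl F)).optionCongr
    have hc : ∀ o, c o = o.map (fun v => (φ0 v.1, v.2)) := fun o => by cases o <;> rfl
    have hpsi : ∀ x, psi φ0.symm (φ0 x) = psi φ0 x := fun x => by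
      simp [psi, mul_comm]
    have hL : ∀ u o, c (lmap φ0 1 u o) = lmap φ0.symm 0 (φ0 u.1, u.2) (c o) := fun u o => by
      rcases o with _ | v
      · rfl
      · simp only [hc, lmap, Option.map_some, pm, beta, map_add, φ0.symm_apply_apply,
          Option.some.injEq, Prod.mk.injEq, true_and]
        linear_combination (φ0 u.1 * v.1) * two_zero (F := F)
    have hK : ∀ k o, c (kmap φ0 k o) = kmap φ0.symm (φ0 k) (c o) := fun k o => by
      rcases o with _ | v
      · rfl
      · simp only [hc, kmap, Option.map_some, map_mul, hpsi]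
    let t' : Option (F × F) → Option (F × F) := fun o => c (t (c.symm o))
    have ht' : ∀ o, t' (c o) = c (t o) := fun o => by simp [t']
    let ρ' : G →* Equiv.Perm (Option (F × F)) := (c.permCongrHom.toMonoidHom).comp ρ
    have hρ' : ∀ g o, ρ' g (c o) = c (ρ g o) := fun g o => by
      simp [ρ', Equiv.permCongrHom, Equiv.permCongr_apply]
    refine ⟨φ0.symm, t', ρ', ⟨one_ne_zero, fun o => ?_, ?_, fun k hk o => ?_, fun o => ?_,
      fun o => ?_, ?_, ?_⟩, c.permCongrHom.injective.comp hρinj, ?_⟩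
    · obtain ⟨o, rfl⟩ := c.surjective o
      rw [ht' o, ht' (t o), hM.invol]
    · show t' (c none) = _
      rw [ht', hM.t_none, hc]; simp
    · obtain ⟨o, rfl⟩ := c.surjective o
      obtain ⟨k, rfl⟩ := φ0.surjective k
      rw [← hK, ht', ht', ← map_inv₀, ← hK, hM.t_kmap k (by simpa using hk)]
    · obtain ⟨o, rfl⟩ := c.surjective o
      have e1 := hL (0, 1)
      have e2 := hL (1, 1)
      have e3 := hL (1, 0)
      simp only [map_zero, map_one] at e1 e2 e3
      rw [ht', ← e1, ht', ← e3, ht', ← e2, hM.t_eq]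
    · obtain ⟨o, rfl⟩ := c.surjective o
      rw [ht', c.injective.eq_iff, hM.t_fix]
      conv_rhs => rw [show some ((1 : F), (0 : F)) = c (some (1, 0)) by simp [hc],
        c.injective.eq_iff]
    · intro x y h
      obtain ⟨x, rfl⟩ := φ0.surjective x
      obtain ⟨y, rfl⟩ := φ0.surjective y
      rw [hpsi, hpsi] at h
      rw [hM.inj h]
    · intro y
      obtain ⟨x, hx⟩ := hM.surj y
      exact ⟨φ0 x, by rw [hpsi, hx]⟩
    · rw [MonoidHom.range_comp, hρ, MonoidHom.map_closure]
      congr 1
      ext p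
      constructor
      · rintro ⟨p, hp, rfl⟩
        have he : ∀ o, c.permCongrHom.toMonoidHom p (c o) = c (p o) := fun o => by
          simp [Equiv.permCongrHom, Equiv.permCongr_apply]
        rcases hp with ⟨u, hu⟩ | ⟨k, hk, hu⟩ | hu
        · refine Or.inl ⟨(φ0 u.1, u.2), funext fun o => ?_⟩
          obtain ⟨o, rfl⟩ := c.surjective o
          rw [he, hu, hL]
        · refine Or.inr (Or.inl ⟨φ0 k, by simpa using hk, funext fun o => ?_⟩)
          obtain ⟨o, rfl⟩ := c.surjective o
          rw [he, hu, hK]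
        · refine Or.inr (Or.inr (funext fun o => ?_))
          obtain ⟨o, rfl⟩ := c.surjective o
          rw [he, hu, ht']
      · intro hp
        refine ⟨c.symm.permCongrHom p, ?_, Equiv.ext fun o => by
          simp [Equiv.permCongrHom, Equiv.permCongr_apply]⟩
        have he : ∀ o, c ((c.symm.permCongrHom p) o) = p (c o) := fun o => by
          simp [Equiv.permCongrHom, Equiv.permCongr_apply]
        rcases hp with ⟨u, hu⟩ | ⟨k, hk, hu⟩ | hu
        · refine Or.inl ⟨(φ0.symm u.1, u.2), funext fun o => c.injective ?_⟩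
          rw [he, hu, hL, φ0.apply_symm_apply]
        · refine Or.inr (Or.inl ⟨φ0.symm k, by simpa using hk, funext fun o => c.injective ?_⟩)
          rw [he, hu, hK, φ0.apply_symm_apply]
        · refine Or.inr (Or.inr (funext fun o => c.injective ?_))
          rw [he, hu, ht']
  have hφ : ∀ x, φ (φ (x * x)) = x := phi_sq hM rfl rfl
  have hS := szModel hm hFc φ hφ ⟨hM.inj, hM.surj⟩
  have hts := t_unique hM hS
  -- the representation of the Suzuki group
  let : MulAction (Cfsg.Sz F m) (Cfsg.suzukiOvoid F m) :=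
    { smul := fun g p => ⟨g • (p : Projectivization F (Fin 4 → F)), Suzuki.smul_mem_ovoid g p.2⟩
      one_smul := fun p => Subtype.ext (one_smul _ _)
      mul_smul := fun g h p => Subtype.ext (mul_smul _ _ _) }
  let σ : Cfsg.Sz F m →* Equiv.Perm (Option (F × F)) := repOf (szPt m φ)
  have hσU : ∀ u, ⇑(σ (Suzuki.U hFc (φ u.1) (u.2 + u.1 * φ u.1))) = lmap φ 0 u := fun u =>
    repOf_eq _ _ _ fun o => Subtype.ext (u_act hm hFc φ hφ u o)
  have hσT : ∀ k (hk : k ≠ 0),
      ⇑(σ (Suzuki.T hFc (Units.mk0 (φ k) ((map_ne_zero φ).2 hk)))) = kmap φ k :=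
    fun k hk => repOf_eq _ _ _ fun o => Subtype.ext (t_act hm hFc φ hφ k hk o)
  have hσW : ⇑(σ (Suzuki.W hFc)) = t := by
    rw [hts]
    exact repOf_eq _ _ _ fun o => Subtype.ext (w_act hFc φ o)
  have hσrange : σ.range = Subgroup.closure (gens φ 0 t) := by
    refine range_eq σ (fun g => ?_) (fun u => ⟨_, hσU u⟩) (fun k hk => ⟨_, hσT k hk⟩) ⟨_, hσW⟩
    have hU' : ∀ x y, σ (Suzuki.U hFc x y) ∈ Subgroup.closure (gens φ 0 t) := fun x y => by
      refine Subgroup.subset_closure (Or.inl ⟨(φ.symm x, y - φ.symm x * x), ?_⟩)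
      rw [← hσU]
      simp
    have hT' : ∀ k, σ (Suzuki.T hFc k) ∈ Subgroup.closure (gens φ 0 t) := fun k => by
      have hk : φ.symm (k : F) ≠ 0 := (map_ne_zero φ.symm).2 k.ne_zero
      refine Subgroup.subset_closure (Or.inr (Or.inl ⟨φ.symm k, hk, ?_⟩))
      rw [← hσT _ hk]
      simp
    have hW' : σ (Suzuki.W hFc) ∈ Subgroup.closure (gens φ 0 t) :=
      Subgroup.subset_closure (Or.inr (Or.inr hσW))
    rcases Suzuki.decompose hFc hm g with ⟨x, y, k, rfl⟩ | ⟨x, y, x', y', k, rfl⟩
    · rw [map_mul]; exact mul_mem (hU' x y) (hT' k)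
    · rw [map_mul, map_mul, map_mul]
      exact mul_mem (mul_mem (hU' x y) hW') (mul_mem (hU' x' y') (hT' k))
  haveI := Suzuki.isSimpleGroup hFc hm
  have hσinj : Function.Injective σ := injective_of_simple σ ⟨Suzuki.W hFc, fun h => by
    have h1 := congrArg (fun p : Equiv.Perm (Option (F × F)) => p none) h
    rw [show σ (Suzuki.W hFc) none = t none from congrFun hσW none, hM.t_none] at h1
    exact Option.some_ne_none _ h1⟩
  exact ⟨F, i1, i2, m, hm, hFc, ⟨(MonoidHom.ofInjective hρinj).trans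
    ((MulEquiv.subgroupCongr (hρ.trans hσrange.symm)).trans
      ((MonoidHom.ofInjective hσinj).symm.trans (RankOne.SzBridge.szEquiv hFc hm)))⟩⟩

end Cfsg.Agent.CharDeep.SzUniq
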