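import Cfsg.Agent.CharDeep.SzUniq.Model
import Cfsg.Agent.Lib.SuzukiTwo.TypeA

/-!
# Equivariant coordinates on a Suzuki 2-group of order `|Z|²` adapted to a given element
-/

set_option autoImplicit false

namespace Cfsg.Agent.CharDeep.SzUniq

open SuzukiTwo

section split

variable {F : Type*} [Field F] [CharP F 2]

/-- Pairs, without the componentwise structure. -/
def Tw (F : Type*) : Type _ := F × F

/-- A symmetric cocycle with zero diagonal is a coboundary. -/
theorem exists_split (δ : F → F → F)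
    (hc : ∀ a b d, δ a b + δ (a + b) d = δ b d + δ a (b + d)) (hs : ∀ a b, δ a b = δ b a)
    (hd : ∀ a, δ a a = 0) (h0 : ∀ a, δ 0 a = 0) :
    ∃ g : F → F, ∀ a b, δ a b = g (a + b) + g a + g b := by
  classical
  let mk : F → F → Tw F := fun x y => (x, y)
  let instAdd : Add (Tw F) := ⟨fun u v => mk (u.1 + v.1) (u.2 + v.2 + δ u.1 v.1)⟩
  let instNeg : Neg (Tw F) := ⟨fun u => u⟩
  let instZero : Zero (Tw F) := ⟨mk 0 0⟩
  letI instG : AddGroup (Tw F) := @AddGroup.ofLeftAxioms (Tw F) instAdd instNeg instZero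
    (fun u v w => by
      show ((u.1 + v.1) + w.1, (u.2 + v.2 + δ u.1 v.1) + w.2 + δ (u.1 + v.1) w.1) =
        (u.1 + (v.1 + w.1), u.2 + (v.2 + w.2 + δ v.1 w.1) + δ u.1 (v.1 + w.1))
      refine Prod.ext (add_assoc _ _ _) ?_
      linear_combination hc u.1 v.1 w.1)
    (fun u => by
      show ((0 : F) + u.1, 0 + u.2 + δ 0 u.1) = u
      rw [h0, zero_add, zero_add, add_zero]
      rfl)
    (fun u => by
      show (u.1 + u.1, u.2 + u.2 + δ u.1 u.1) = ((0 : F), (0 : F))
      rw [hd, add_self, add_self, add_zero])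
  letI : AddCommGroup (Tw F) :=
    { instG with
      add_comm := fun u v => by
        show (u.1 + v.1, u.2 + v.2 + δ u.1 v.1) = (v.1 + u.1, v.2 + u.2 + δ v.1 u.1)
        rw [hs, add_comm u.1, add_comm u.2] }
  letI : Module (ZMod 2) (Tw F) := AddCommGroup.zmodModule fun u => by
    rw [two_nsmul]
    show (u.1 + u.1, u.2 + u.2 + δ u.1 u.1) = ((0 : F), (0 : F))
    rw [hd, add_self, add_self, add_zero]
  letI : Algebra (ZMod 2) F := ZMod.algebra F 2
  let π : Tw F →+ F :=
    { toFun := fun u => u.1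
      map_zero' := rfl
      map_add' := fun u v => rfl }
  let p : Tw F →ₗ[ZMod 2] F := π.toZModLinearMap 2
  obtain ⟨s, hs'⟩ := p.exists_rightInverse_of_surjective
    (LinearMap.range_eq_top.2 fun x => ⟨mk x 0, rfl⟩)
  have h1 : ∀ x, (s x).1 = x := fun x => LinearMap.congr_fun hs' x
  refine ⟨fun x => (s x).2, fun a b => ?_⟩
  have h' : (s (a + b)).2 = (s a).2 + (s b).2 + δ (s a).1 (s b).1 :=
    congrArg (fun u : Tw F => u.2) (map_add s a b)
  rw [h1, h1] at h'
  show δ a b = (s (a + b)).2 + (s a).2 + (s b).2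
  rw [h']
  linear_combination (-((s a).2 + (s b).2)) * two_zero (F := F)

/-- An equivariant cocycle of that kind is a multiple of the coboundary of `ψ`. -/
theorem exists_equivariant_split [Fintype F] (φ : F ≃+* F) (δ : F → F → F)
    (hc : ∀ a b d, δ a b + δ (a + b) d = δ b d + δ a (b + d)) (hs : ∀ a b, δ a b = δ b a)
    (hd : ∀ a, δ a a = 0) (h0 : ∀ a, δ 0 a = 0)
    (heq : ∀ k a b, δ (k * a) (k * b) = psi φ k * δ a b) :
    ∃ η : F, ∀ a b, δ a b = η * (φ a * b + a * φ b) := by
  classical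
  obtain ⟨g, hg⟩ := exists_split δ hc hs hd h0
  have hodd : (Fintype.card Fˣ : F) = 1 := by
    obtain ⟨n, -, hn⟩ := FiniteField.card F 2
    have h : Fintype.card Fˣ % 2 = 1 := by
      rw [Fintype.card_units, hn]
      have h1 : 2 ∣ 2 ^ (n : ℕ) := dvd_pow_self 2 n.pos.ne'
      have h2 := Nat.two_pow_pos (n : ℕ)
      omega
    obtain ⟨j, hj⟩ : ∃ j, Fintype.card Fˣ = 2 * j + 1 := ⟨Fintype.card Fˣ / 2, by omega⟩
    rw [hj]; push_cast
    linear_combination (j : F) * two_zero (F := F)
  let g' : F → F := fun x => ∑ k : Fˣ, (psi φ (k : F))⁻¹ * g (k * x)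
  have hg' : ∀ a b, δ a b = g' (a + b) + g' a + g' b := by
    intro a b
    have : ∀ k : Fˣ, δ a b =
        (psi φ (k : F))⁻¹ * (g (k * (a + b)) + g (k * a) + g (k * b)) := by
      intro k
      rw [mul_add (k : F), ← hg, heq, inv_mul_cancel_left₀ (psi_ne φ k.ne_zero)]
    calc δ a b = ∑ _k : Fˣ, δ a b := by
          rw [Finset.sum_const, Finset.card_univ, nsmul_eq_mul, hodd, one_mul]
      _ = ∑ k : Fˣ, (psi φ (k : F))⁻¹ * (g (k * (a + b)) + g (k * a) + g (k * b)) :=
          Finset.sum_congr rfl fun k _ => this k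
      _ = _ := by simp only [g', mul_add, Finset.sum_add_distrib]
  have hscale : ∀ l : Fˣ, ∀ x, g' (l * x) = psi φ (l : F) * g' x := by
    intro l x
    simp only [g', Finset.mul_sum]
    refine Fintype.sum_equiv (Equiv.mulRight l) _ _ fun k => ?_
    simp only [Equiv.coe_mulRight, Units.val_mul, psi_mul]
    rw [mul_assoc (k : F) l x]
    have := psi_ne φ l.ne_zero
    have := psi_ne φ k.ne_zero
    field_simp
  have hx : ∀ x, g' x = g' 1 * psi φ x := by
    intro x
    rcases eq_or_ne x 0 with rfl | hx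
    · have h := hg' 0 0
      rw [h0, add_zero] at h
      rw [show psi φ (0 : F) = 0 by simp [psi], mul_zero]
      linear_combination -h - g' 0 * two_zero (F := F)
    · have := hscale (Units.mk0 x hx) 1
      rw [mul_one, Units.val_mk0] at this
      rw [this, mul_comm]
  refine ⟨g' 1, fun a b => ?_⟩
  rw [hg', hx (a + b), hx a, hx b]
  simp only [psi, map_add]
  linear_combination g' 1 * (a * φ a + b * φ b) * two_zero (F := F)

end split

variable {P : Type*} [Group P] {F : Type} [Field F] (fr : Frame P F)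
variable [Finite P] [Fintype F] [CharP F 2] (hP : IsPGroup 2 P)
  (hna : ∃ x y : P, x * y ≠ y * x) {u0 : Fˣ} (hu0 : u0 ≠ 1)
include fr hP hna hu0

/-- The coordinates. -/
theorem exists_coords (hq : 4 ≤ Fintype.card F) (hcard : Nat.card P = Fintype.card F ^ 2)
    {r : P} (hr : r ∉ Subgroup.center P) :
    ∃ (φ : F ≃+* F) (η : F) (el : F × F → P), Function.Bijective el ∧
      (∀ u v, el (pm φ η u v) = el u * el v) ∧ el (1, 0) = r ∧
      Function.Bijective (psi φ) ∧
      ∀ k : F, k ≠ 0 → ∃ u : Fˣ, ∀ v, fr.act u (el v) = el (k * v.1, psi φ k * v.2) := by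
  classical
  obtain ⟨c, χ, hcadd, hconto, hcker, hχ, hχmul, hcact⟩ := fr.exists_coord hP hna hu0 hq hcard
  set Z := Subgroup.center P
  have hZiff : ∀ x, x ∈ Z ↔ x * x = 1 := fun x => fr.mem_center_iff_sq hP hna hu0
  have hc0 : c r ≠ 0 := fun h => hr ((hcker r).1 h)
  set c0 := c r
  let χe : Fˣ ≃* Fˣ := MulEquiv.ofBijective (MonoidHom.mk' χ hχmul) hχ
  have hχe : ∀ u, χe u = χ u := fun u => rfl
  -- the norm
  let ψ0 : F → F := fun a => if h : a = 0 then 0 else (χe.symm (Units.mk0 a h) : F)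
  let sec : F → P := fun a => if h : a = 0 then 1 else fr.act (χe.symm (Units.mk0 a h)) r
  have hsec0 : sec 0 = 1 := dif_pos rfl
  have hψ00 : ψ0 0 = 0 := dif_pos rfl
  have hψu : ∀ u : Fˣ, ψ0 (χ u : F) = u := fun u => by
    show dite _ _ _ = _
    rw [dif_neg (χ u).ne_zero, Units.mk0_val, ← hχe, MulEquiv.symm_apply_apply]
  have hsecu : ∀ u : Fˣ, sec (χ u : F) = fr.act u r := fun u => by
    show dite _ _ _ = _
    rw [dif_neg (χ u).ne_zero, Units.mk0_val, ← hχe, MulEquiv.symm_apply_apply]
  have hcover : ∀ a : F, a ≠ 0 → ∃ u : Fˣ, (χ u : F) = a := fun a ha => by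
    obtain ⟨u, hu⟩ := hχ.2 (Units.mk0 a ha)
    exact ⟨u, by rw [hu]; rfl⟩
  have hχ1 : χ 1 = 1 := map_one χe
  have hsec1 : sec 1 = r := by
    have := hsecu 1
    rwa [hχ1, Units.val_one, map_one, MulAut.one_apply] at this
  have hc1 : c 1 = 0 := (hcker 1).2 Z.one_mem
  have hcsec : ∀ a, c (sec a) = a * c0 := fun a => by
    rcases eq_or_ne a 0 with rfl | ha
    · rw [hsec0, hc1, zero_mul]
    obtain ⟨u, rfl⟩ := hcover a ha
    rw [hsecu, hcact]
  -- equivariance of the section
  have hsecmul : ∀ (u : Fˣ) a, fr.act u (sec a) = sec ((χ u : F) * a) := fun u a => by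
    rcases eq_or_ne a 0 with rfl | ha
    · rw [mul_zero, hsec0, map_one]
    obtain ⟨v, rfl⟩ := hcover a ha
    rw [← Units.val_mul, ← hχmul, hsecu, hsecu, map_mul, MulAut.mul_apply]
  set e0 := fr.log (r * r)
  have hrr : r * r * (r * r) = 1 := fr.sq_sq hP hna hu0 r
  have he0 : e0 ≠ 0 := fun h => hr ((hZiff r).2 ((fr.log_eq_zero hrr).1 h))
  have hsq : ∀ a, sec a * sec a = fr.emb (ψ0 a * e0) := fun a => by
    rcases eq_or_ne a 0 with rfl | ha
    · rw [hsec0, hψ00, zero_mul, fr.emb_zero, mul_one]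
    obtain ⟨u, rfl⟩ := hcover a ha
    rw [hsecu, hψu, ← map_mul, ← fr.act_emb, fr.emb_log hrr]
  -- the cocycle
  let β : F → F → F := fun a b => fr.log ((sec (a + b))⁻¹ * (sec a * sec b)) / e0
  have hprod : ∀ a b, sec a * sec b = sec (a + b) * fr.emb (β a b * e0) := fun a b => by
    have hm : (sec (a + b))⁻¹ * (sec a * sec b) ∈ Z := by
      rw [← hcker]
      have h1 := hcadd (sec (a + b)) ((sec (a + b))⁻¹ * (sec a * sec b))
      rw [mul_inv_cancel_left, hcadd, hcsec, hcsec, hcsec] at h1
      linear_combination -h1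
    show _ = _ * fr.emb (fr.log _ / e0 * e0)
    rw [div_mul_cancel₀ _ he0, fr.emb_log ((hZiff _).1 hm), mul_inv_cancel_left]
  have hcen : ∀ a x, x * fr.emb a = fr.emb a * x := fun a x => fr.emb_central hP a x
  have hembz : ∀ a b, fr.emb (a * e0) * fr.emb (b * e0) = fr.emb ((a + b) * e0) := fun a b => by
    rw [← fr.emb_add, add_mul]
  have hembinj : ∀ {a b : F}, fr.emb (a * e0) = fr.emb (b * e0) → a = b := fun h =>
    mul_right_cancel₀ he0 (fr.emb_inj h)
  have hcoc : ∀ a b d, β a b + β (a + b) d = β b d + β a (b + d) := fun a b d => by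
    have h : sec (a + b + d) * (fr.emb (β (a + b) d * e0) * fr.emb (β a b * e0)) =
        sec (a + b + d) * (fr.emb (β a (b + d) * e0) * fr.emb (β b d * e0)) := by
      rw [← mul_assoc, ← hprod, add_assoc, ← mul_assoc, ← hprod]
      rw [mul_assoc (sec (a + b)), hcen, ← mul_assoc, ← hprod, mul_assoc (sec a), mul_assoc (sec a),
        ← hprod b d]
    rw [hembz, hembz] at h
    linear_combination hembinj (mul_left_cancel h)
  have hdiag : ∀ a, β a a = ψ0 a := fun a => by
    have h := hprod a a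
    rw [hsq, CharTwo.add_self_eq_zero, hsec0, one_mul] at h
    exact (hembinj h).symm
  have hzero : ∀ a, β 0 a = 0 := fun a => by
    have h := hprod 0 a
    rw [zero_add, hsec0, one_mul, left_eq_mul, fr.emb_eq_one] at h
    exact (mul_eq_zero.1 h).resolve_right he0
  have hβscale : ∀ (u : Fˣ) a b, β ((χ u : F) * a) ((χ u : F) * b) = (u : F) * β a b :=
    fun u a b => by
      have h := congrArg (fr.act u) (hprod a b)
      rw [map_mul, map_mul, hsecmul, hsecmul, hsecmul, fr.act_emb, hprod, mul_add,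
        ← mul_assoc (u : F)] at h
      exact hembinj (mul_left_cancel h)
  -- the commutator form
  have hsym : ∀ a b, β a b + β b a = ψ0 (a + b) + ψ0 a + ψ0 b := fun a b => by
    have hba : sec b * sec a = sec a * sec b * fr.emb ((β a b + β b a) * e0) := by
      rw [hprod b a, hprod a b, add_comm b a, mul_assoc, hembz]
      congr 3
      linear_combination (-β a b) * two_zero (F := F)
    have h1 : (sec a * sec b) * (sec a * sec b) = fr.emb (ψ0 (a + b) * e0) := by
      rw [hprod, mul_assoc, ← mul_assoc (fr.emb _) (sec _), ← hcen, mul_assoc (sec _),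
        fr.emb_mul_self, mul_one, hsq]
    have h2 : (sec a * sec b) * (sec a * sec b) =
        fr.emb ((ψ0 a + ψ0 b + (β a b + β b a)) * e0) := by
      calc (sec a * sec b) * (sec a * sec b) = sec a * (sec b * sec a) * sec b := by group
        _ = (sec a * sec a) * ((sec b * fr.emb ((β a b + β b a) * e0)) * sec b) := by
            rw [hba]; simp only [mul_assoc]
        _ = (sec a * sec a) * (sec b * sec b) * fr.emb ((β a b + β b a) * e0) := by
            rw [hcen, mul_assoc (fr.emb _), ← hcen]; simp only [mul_assoc]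
        _ = _ := by rw [hsq, hsq, hembz, hembz]
    have h3 := hembinj (h1.symm.trans h2)
    linear_combination -h3 + (-(ψ0 a + ψ0 b)) * two_zero (F := F)
  have hbiadd : ∀ a b d, β (a + b) d + β d (a + b) = (β a d + β d a) + (β b d + β d b) := by
    intro a b d
    have h1 := hcoc a b d
    have h2 := hcoc d a b
    have h3 := hcoc a d b
    rw [add_comm d a] at h2
    rw [add_comm d b] at h3
    linear_combination h1 + h2 + h3 +
      (-β a d - β d a + β d (a + b) + β a (b + d) - β (a + d) b) * two_zero (F := F)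
  -- the norm is a product of two automorphisms
  have : Finite (F ≃+* F) :=
    Finite.of_injective (fun τ : F ≃+* F => (τ : F → F)) DFunLike.coe_injective
  have hψmul : ∀ a b, ψ0 (a * b) = ψ0 a * ψ0 b := fun a b => by
    rcases eq_or_ne a 0 with rfl | ha
    · rw [zero_mul, hψ00, zero_mul]
    rcases eq_or_ne b 0 with rfl | hb
    · rw [mul_zero, hψ00, mul_zero]
    obtain ⟨u, rfl⟩ := hcover a ha
    obtain ⟨v, rfl⟩ := hcover b hb
    rw [← Units.val_mul, ← hχmul, hψu, hψu, hψu, Units.val_mul]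
  let mh : F →* F :=
    { toFun := ψ0
      map_one' := by
        have := hψu 1
        rwa [hχ1, Units.val_one] at this
      map_mul' := hψmul }
  obtain ⟨σ, τ, hστ⟩ : ∃ σ τ : F ≃+* F, ∀ x, ψ0 x = σ x * τ x := by
    let : Fintype (F ≃+* F) := Fintype.ofFinite _
    have hspan : ψ0 ∈ Submodule.span F (Set.range (RankOne.prodFun (F := F))) := by
      refine RankOne.quadratic_mem_span ψ0 fun x y z => ?_
      have h := hbiadd x y z
      rw [hsym, hsym, hsym] at h
      linear_combination h + (ψ0 (x + z) + ψ0 x + ψ0 y + ψ0 (y + z) + ψ0 z) * two_zero (F := F)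
    by_contra hcon
    let S : Set (F →* F) :=
      Set.range fun p : (F ≃+* F) × (F ≃+* F) => (p.1 : F →* F) * (p.2 : F →* F)
    refine ((linearIndependent_monoidHom F F).notMem_span_image (s := S) (x := mh) ?_) ?_
    · rintro ⟨⟨σ, τ⟩, h⟩
      exact hcon ⟨σ, τ, fun x => (DFunLike.congr_fun h x).symm⟩
    · refine (Submodule.span_mono ?_) hspan
      rintro _ ⟨p, rfl⟩
      exact ⟨_, ⟨p, rfl⟩, rfl⟩
  let φ : F ≃+* F := σ.symm.trans τ
  have hψφ : ∀ X, ψ0 (σ.symm X) = psi φ X := fun X => by
    rw [hστ, σ.apply_symm_apply]; rfl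
  -- the normal form of the cocycle
  obtain ⟨η, hη⟩ := exists_equivariant_split φ
    (fun X Y => β (σ.symm X) (σ.symm Y) + φ X * Y)
    (fun X Y W => by
      simp only [map_add]
      linear_combination hcoc (σ.symm X) (σ.symm Y) (σ.symm W))
    (fun X Y => by
      have h := hsym (σ.symm X) (σ.symm Y)
      rw [← map_add, hψφ, hψφ, hψφ] at h
      simp only [psi, map_add] at h
      linear_combination h + (X * φ X + Y * φ Y + φ X * Y - β (σ.symm Y) (σ.symm X)) *
        two_zero (F := F))
    (fun X => by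
      rw [hdiag, hψφ, psi]
      linear_combination (X * φ X) * two_zero (F := F))
    (fun X => by simp [hzero])
    (fun k X Y => by
      rcases eq_or_ne k 0 with rfl | hk
      · simp [hzero, psi]
      obtain ⟨u, hu⟩ := hcover (σ.symm k) (by simpa using hk)
      have hku : psi φ k = (u : F) := by rw [← hψφ, ← hu, hψu]
      rw [map_mul, map_mul, ← hu, hβscale, hku.symm]
      simp only [psi, map_mul]
      ring)
  have hβ : ∀ X Y, β (σ.symm X) (σ.symm Y) = SzUniq.beta φ η X Y := fun X Y => by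
    have h := hη X Y
    simp only [SzUniq.beta]
    linear_combination h - (φ X * Y) * two_zero (F := F)
  let el : F × F → P := fun v => sec (σ.symm v.1) * fr.emb (v.2 * e0)
  refine ⟨φ, η, el, ?_, ?_, ?_, ?_, ?_⟩
  · have hinj : Function.Injective el := by
      intro u v h
      have h1 := congrArg c h
      have hz : ∀ a, c (fr.emb a) = 0 := fun a => (hcker _).2 ((hZiff _).2 (fr.emb_mul_self a))
      simp only [el, hcadd, hcsec, hz, add_zero] at h1
      have h2 : u.1 = v.1 := σ.symm.injective (mul_right_cancel₀ hc0 h1)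
      simp only [el, h2] at h
      exact Prod.ext h2 (hembinj (mul_left_cancel h))
    refine ⟨hinj, fun x => ?_⟩
    set a := c x / c0
    have hm : (sec a)⁻¹ * x ∈ Z := by
      rw [← hcker]
      have h1 := hcadd (sec a) ((sec a)⁻¹ * x)
      rw [mul_inv_cancel_left, hcsec] at h1
      have : c x = a * c0 := (div_mul_cancel₀ _ hc0).symm
      linear_combination this - h1
    refine ⟨(σ a, fr.log ((sec a)⁻¹ * x) / e0), ?_⟩
    simp only [el, σ.symm_apply_apply]
    rw [div_mul_cancel₀ _ he0, fr.emb_log ((hZiff _).1 hm), mul_inv_cancel_left]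
  · intro u v
    simp only [el, pm]
    rw [mul_assoc (sec (σ.symm u.1)), ← mul_assoc (fr.emb (u.2 * e0)), ← hcen,
      mul_assoc (sec (σ.symm v.1)), hembz, ← mul_assoc, hprod, map_add, mul_assoc, hembz, hβ]
    congr 3
    ring
  · show sec (σ.symm 1) * fr.emb (0 * e0) = r
    rw [map_one, hsec1, zero_mul, fr.emb_zero, mul_one]
  · have h : Function.Injective (psi φ) := by
      intro X Y h
      rw [← hψφ, ← hψφ] at h
      apply σ.symm.injective
      rcases eq_or_ne (σ.symm X) 0 with hX | hX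
      · rw [hX] at h ⊢
        by_contra hY
        obtain ⟨v, hv⟩ := hcover _ (Ne.symm hY)
        rw [hψ00, ← hv, hψu] at h
        exact v.ne_zero h.symm
      rcases eq_or_ne (σ.symm Y) 0 with hY | hY
      · obtain ⟨v, hv⟩ := hcover _ hX
        rw [hY, hψ00, ← hv, hψu] at h
        exact absurd h v.ne_zero
      obtain ⟨u, hu⟩ := hcover _ hX
      obtain ⟨v, hv⟩ := hcover _ hY
      rw [← hu, ← hv, hψu, hψu] at h
      rw [← hu, ← hv, Units.ext h]
    exact ⟨h, Finite.injective_iff_surjective.1 h⟩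
  · intro k hk
    obtain ⟨u, hu⟩ := hcover (σ.symm k) (by simpa using hk)
    refine ⟨u, fun v => ?_⟩
    simp only [el, map_mul, hsecmul, fr.act_emb]
    rw [← hu, ← hψφ k, ← hu, hψu, mul_assoc]

end Cfsg.Agent.CharDeep.SzUniq
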