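import Mathlib

/-!
# Uniqueness of the Suzuki groups: the functional equation

Points are `none` and `some (x, y)`; `t` is the involution exchanging `none` and `some (0, 0)`.
The single relation `t s t = r⁻¹ t r` determines the field automorphism and `t`.
-/

set_option autoImplicit false

namespace Cfsg.Agent.CharDeep.SzUniq

variable {F : Type*} [Field F] (φ : F ≃+* F) (η : F)

/-- The norm-like map. -/
def psi (x : F) : F := x * φ x

/-- The cocycle. -/
def beta (x y : F) : F := (1 + η) * φ x * y + η * x * φ y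

/-- The product in coordinates. -/
def pm (u v : F × F) : F × F := (u.1 + v.1, u.2 + v.2 + beta φ η u.1 v.1)

/-- Left translation on points. -/
def lmap (u : F × F) : Option (F × F) → Option (F × F) := Option.map (pm φ η u)

/-- Scaling on points. -/
def kmap (k : F) : Option (F × F) → Option (F × F) :=
  Option.map fun v => (k * v.1, psi φ k * v.2)

/-- The general point with non-zero first coordinate. -/
def pair (a b : F) : F × F := (a + b, (1 + η) * φ (a + b) * b + η * (a + b) * φ b)

/-- The hypotheses. -/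
structure Model (ε : F) (t : Option (F × F) → Option (F × F)) : Prop where
  eps : ε ≠ 0
  invol : ∀ v, t (t v) = v
  t_none : t none = some (0, 0)
  t_kmap : ∀ k : F, k ≠ 0 → ∀ v, t (kmap φ k v) = kmap φ k⁻¹ (t v)
  t_eq : ∀ v, t (lmap φ η (0, ε) (t v)) = lmap φ η (1, 1) (t (lmap φ η (1, 0) v))
  t_fix : ∀ v, t v = v ↔ v = some (1, 0)
  inj : Function.Injective (psi φ)
  surj : Function.Surjective (psi φ)

theorem psi_mul (x y : F) : psi φ (x * y) = psi φ x * psi φ y := by simp [psi]; ring

theorem psi_one : psi φ (1 : F) = 1 := by simp [psi]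

theorem psi_inv (x : F) : psi φ x⁻¹ = (psi φ x)⁻¹ := by simp [psi, mul_comm]

theorem psi_ne {x : F} (hx : x ≠ 0) : psi φ x ≠ 0 := by simp [psi, hx]

variable [CharP F 2]

theorem two_zero : (2 : F) = 0 := CharTwo.two_eq_zero

theorem add_self (x : F) : x + x = 0 := CharTwo.add_self_eq_zero x

theorem eq_of_add {x y : F} (h : x + y = 0) : x = y := by
  linear_combination h - (y : F) * two_zero (F := F)

theorem lmap_kmap (k : F) (u : F × F) (v : Option (F × F)) :
    kmap φ k (lmap φ η u v) = lmap φ η (k * u.1, psi φ k * u.2) (kmap φ k v) := by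
  cases v with
  | none => rfl
  | some v =>
    simp only [kmap, lmap, Option.map_some, pm, beta, psi, map_mul, Option.some.injEq, Prod.mk.injEq]
    constructor <;> ring

theorem kmap_kmap (k l : F) (v : Option (F × F)) :
    kmap φ k (kmap φ l v) = kmap φ (k * l) v := by
  cases v with
  | none => rfl
  | some v =>
    simp only [kmap, Option.map_some, psi, map_mul, Option.some.injEq, Prod.mk.injEq]
    constructor <;> ring

theorem kmap_one (v : Option (F × F)) : kmap φ 1 v = v := by
  cases v <;> simp [kmap, psi]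

variable {φ η} {ε : F} {t : Option (F × F) → Option (F × F)} (H : Model φ η ε t)
include H

theorem t_rel {a : F} (ha : a ≠ 0) (v : Option (F × F)) :
    t (lmap φ η (0, ε / psi φ a) (t v)) =
      lmap φ η (a, psi φ a) (kmap φ (a * a) (t (lmap φ η (a, 0) v))) := by
  have e1 : ∀ w, lmap φ η (0, ε / psi φ a) w = kmap φ a⁻¹ (lmap φ η (0, ε) (kmap φ a w)) := by
    intro w
    rw [lmap_kmap, kmap_kmap, inv_mul_cancel₀ ha, kmap_one]
    simp only [mul_zero]
    rw [psi_inv, inv_mul_eq_div]
  rw [e1, H.t_kmap _ (inv_ne_zero ha), inv_inv]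
  have e2 : kmap φ a (t v) = t (kmap φ a⁻¹ v) := by rw [H.t_kmap _ (inv_ne_zero ha), inv_inv]
  rw [e2, H.t_eq]
  have e3 : lmap φ η (1, 0) (kmap φ a⁻¹ v) = kmap φ a⁻¹ (lmap φ η (a, 0) v) := by
    rw [lmap_kmap]
    simp [ha]
  rw [e3, H.t_kmap _ (inv_ne_zero ha), inv_inv, lmap_kmap, kmap_kmap]
  simp

theorem t_sa {a : F} (ha : a ≠ 0) : t (some (0, ε / psi φ a)) = some (a, psi φ a) := by
  have h := t_rel H ha none
  have h0 : lmap φ η (a, 0) none = none := rfl
  rw [h0, H.t_none] at h
  simpa [lmap, kmap, pm, beta] using h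

theorem t_ra {a : F} (ha : a ≠ 0) : t (some (a, 0)) = some (a⁻¹, 0) := by
  have h : kmap φ a (some (1, 0)) = some (a, 0) := by simp [kmap]
  rw [← h, H.t_kmap a ha, (H.t_fix _).mpr rfl]
  simp [kmap]

theorem t_pair {a b b' : F} (ha : a ≠ 0) (hb : b ≠ 0) (hab : a ≠ b)
    (hb' : psi φ b' * (psi φ a * (psi φ a + psi φ b)) = psi φ b) :
    t (some (pair φ η a b)) = some (pair φ η a⁻¹ b') := by
  have hne : psi φ a + psi φ b ≠ 0 := fun e => hab (H.inj (eq_of_add e))
  have hb'0 : b' ≠ 0 := by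
    rintro rfl
    exact psi_ne φ hb (by simpa [psi] using hb'.symm)
  obtain ⟨n, hn⟩ : ∃ n, n = b' * a * a := ⟨_, rfl⟩
  have hn0 : n ≠ 0 := by rw [hn]; exact mul_ne_zero (mul_ne_zero hb'0 ha) ha
  have hψn : psi φ n * (psi φ a + psi φ b) = psi φ a * psi φ b := by
    rw [hn, psi_mul, psi_mul]
    linear_combination psi φ a * hb'
  have hpa := psi_ne φ ha
  have hpb := psi_ne φ hb
  have hpn := psi_ne φ hn0
  have hs : ε / psi φ a + ε / psi φ b = ε / psi φ n := by
    rw [eq_div_iff hpn]
    field_simp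
    linear_combination ε * hψn
  have h := t_rel H ha (some (b, psi φ b))
  have ht : t (some (b, psi φ b)) = some (0, ε / psi φ b) := by rw [← t_sa H hb, H.invol]
  rw [ht] at h
  have e1 : lmap φ η (0, ε / psi φ a) (some (0, ε / psi φ b)) = some (0, ε / psi φ n) := by
    simp [lmap, pm, beta, hs]
  have e2 : lmap φ η (a, 0) (some (b, psi φ b)) = some (pair φ η a b) := by
    simp only [lmap, Option.map_some, pm, pair, beta, psi, Option.some.injEq, Prod.mk.injEq, true_and,
      map_add]
    linear_combination (-η) * (b * φ b) * two_zero (F := F)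
  rw [e1, e2, t_sa H hn0] at h
  rcases hX : t (some (pair φ η a b)) with _ | ⟨X, Y⟩
  · rw [hX] at h; simp [lmap, kmap] at h
  rw [hX] at h
  simp only [lmap, kmap, Option.map_some, pm, beta, Option.some.injEq, Prod.mk.injEq] at h
  obtain ⟨h1, h2⟩ := h
  have hX' : X = a⁻¹ + b' := by
    have : a * a * X = a * a * (a⁻¹ + b') := by
      rw [hn] at h1
      rw [mul_add, mul_assoc a a a⁻¹, mul_inv_cancel₀ ha, mul_one]
      linear_combination (-1) * h1 + (-a) * two_zero (F := F)
    exact mul_left_cancel₀ (mul_ne_zero ha ha) this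
  refine congrArg some (Prod.ext hX' ?_)
  subst hX'
  refine mul_left_cancel₀ (psi_ne φ (mul_ne_zero ha ha)) ?_
  rw [hn] at h2
  simp only [pair, psi, map_mul, map_add, map_inv₀] at h2 ⊢
  have hfa : φ a ≠ 0 := by simpa using ha
  field_simp at h2 ⊢
  linear_combination (-1) * h2 + (-1 - a * φ a * η * b' * φ b' - a * η * b' - a * b' -
    φ a * η * φ b' - η) * two_zero (F := F)

theorem lin_ne {b : F} (hb : b ≠ 0) : (1 + η) * b + η * φ b ≠ 0 := by
  intro h0
  have hA : (1 : F) + b ≠ 0 := by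
    intro e
    have hb1 : b = 1 := (eq_of_add e).symm
    rw [hb1, map_one] at h0
    exact one_ne_zero (α := F) (by linear_combination h0 - η * two_zero (F := F))
  have hne : (1 : F) + b ≠ b := by simp
  have hden : psi φ (1 + b) * (psi φ (1 + b) + psi φ b) ≠ 0 :=
    mul_ne_zero (psi_ne φ hA) fun e => hne (H.inj (eq_of_add e))
  have hp : pair φ η (1 + b) b = (1, 0) := by
    have : (1 : F) + b + b = 1 := by rw [add_assoc, add_self, add_zero]
    simp [pair, this, h0]
  -- the candidate second parameter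
  have hfix := (H.t_fix (some (pair φ η (1 + b) b))).mpr (by rw [hp])
  by_cases hs : psi φ (b / (1 + b)) * (psi φ (1 + b) * (psi φ (1 + b) + psi φ b)) = psi φ b
  · rw [div_eq_mul_inv, psi_mul, psi_inv] at hs
    have hR : psi φ (1 + b) + psi φ b = 1 := by
      have := psi_ne φ hA
      have hb0 := psi_ne φ hb
      field_simp at hs
      exact hs
    simp only [psi, map_add, map_one] at hR
    have hfb : φ b = b := eq_of_add (by linear_combination hR - (b * φ b) * two_zero (F := F))
    rw [hfb] at h0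
    exact hb (by linear_combination h0 - (η * b) * two_zero (F := F))
  · obtain ⟨b', hb'⟩ : ∃ b', psi φ b' = psi φ b / (psi φ (1 + b) * (psi φ (1 + b) + psi φ b)) :=
      H.surj _
    have hb'' := hb'
    rw [eq_div_iff hden] at hb''
    have h := t_pair H hA hb hne hb''
    rw [hfix, hp] at h
    simp only [pair, Option.some.injEq, Prod.mk.injEq] at h
    refine hs ?_
    have : b / (1 + b) = b' := by
      field_simp
      linear_combination (-(1 + b)) * h.1 + (mul_inv_cancel₀ hA) +
        (1 + b - b * (1 + b)⁻¹ - b * b' - (1 + b)⁻¹ - b') * two_zero (F := F)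
    rw [this]
    exact hb''

theorem exists_lin [Finite F] (y : F) : ∃ b, (1 + η) * b + η * φ b = y := by
  let f : F →+ F :=
    { toFun := fun b => (1 + η) * b + η * φ b
      map_zero' := by simp
      map_add' := fun x y => by rw [map_add]; ring }
  have hi : Function.Injective f := (injective_iff_map_eq_zero f).2 fun b hb =>
    by_contra fun hne => lin_ne H hne hb
  exact Finite.injective_iff_surjective.1 hi y

theorem base_facts {b : F} (hb : b ≠ 0) (hb1 : b ≠ 1) :
    1 + b ≠ 0 ∧ psi φ (1 + b) + psi φ b ≠ 0 ∧ (1 + η) * b + η * φ b ≠ 0 := by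
  refine ⟨fun e => hb1 (eq_of_add e).symm, fun e => ?_, lin_ne H hb⟩
  have h := H.inj (eq_of_add e)
  exact one_ne_zero (α := F) (by linear_combination h)

/-- The two consequences of the functional equation at a central point. -/
theorem central_eqs {b : F} (hb : b ≠ 0) (hb1 : b ≠ 1) :
    ∃ k w : F, k ≠ 0 ∧ w ≠ 0 ∧ psi φ k * ε = (1 + η) * b + η * φ b ∧
      psi φ w * (psi φ (1 + b) + psi φ b) = 1 ∧
      k * (1 + b) * (1 + (1 + b) * w) = b * b * (1 + w) ∧
      psi φ k / psi φ b * ((1 + η) * (1 + φ (1 + b) * φ w) * ((1 + b) * w) +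
          η * (1 + (1 + b) * w) * (φ (1 + b) * φ w)) =
        1 + ((1 + η) * ((1 + φ b * φ w) / φ (1 + b)) * (b * w / (1 + b)) +
          η * ((1 + b * w) / (1 + b)) * (φ b * φ w / φ (1 + b))) +
          ((1 + η) * ((1 + b * w) / (1 + b)) + η * ((1 + φ b * φ w) / φ (1 + b))) := by
  obtain ⟨hA, hR, hL⟩ := base_facts H hb hb1
  set A := 1 + b with hAdef
  set L := (1 + η) * b + η * φ b with hLdef
  obtain ⟨k, hk⟩ := H.surj (L / ε)
  have hk0 : k ≠ 0 := by
    rintro rfl
    exact div_ne_zero hL H.eps (by simpa [psi] using hk.symm)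
  obtain ⟨w, hw⟩ := H.surj (psi φ A + psi φ b)⁻¹
  have hw0 : w ≠ 0 := by
    rintro rfl
    exact inv_ne_zero hR (by simpa [psi] using hw.symm)
  have hkε : psi φ k * ε = L := by rw [hk, div_mul_cancel₀ _ H.eps]
  have hwR : psi φ w * (psi φ A + psi φ b) = 1 := by rw [hw, inv_mul_cancel₀ hR]
  have hpk := psi_ne φ hk0
  have hpb := psi_ne φ hb
  have hpA := psi_ne φ hA
  have hne : A ≠ b := fun e => one_ne_zero (α := F) (by linear_combination e + hAdef.symm)
  have hpne : k⁻¹ * b ≠ k⁻¹ * A := fun e => hne (mul_left_cancel₀ (inv_ne_zero hk0) e).symm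
  have h := H.t_eq (some (0, L))
  have ht0 : t (some (0, L)) = some (k⁻¹, psi φ k⁻¹) := by
    rw [← t_sa H (inv_ne_zero hk0), psi_inv, div_inv_eq_mul, mul_comm ε, hkε]
  have e1 : lmap φ η (0, ε) (some (k⁻¹, psi φ k⁻¹)) =
      some (pair φ η (k⁻¹ * b) (k⁻¹ * A)) := by
    simp only [lmap, Option.map_some, pm, pair, beta, Option.some.injEq, Prod.mk.injEq]
    constructor
    · linear_combination (norm := (ring_nf <;> simp [CharTwo.ofNat_eq_mod])) (-k⁻¹) * hAdef
    · have hε : ε = psi φ k⁻¹ * L := by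
        rw [psi_inv, ← hkε, inv_mul_cancel_left₀ hpk]
      rw [hε, hLdef, hAdef]
      simp only [psi, map_add, map_mul, map_one, map_zero]
      linear_combination (norm := (ring_nf <;> simp [CharTwo.ofNat_eq_mod])) (0 : F) * two_zero (F := F)
  have e2 : lmap φ η (1, 0) (some (0, L)) = some (pair φ η A b) := by
    simp only [lmap, Option.map_some, pm, pair, beta, Option.some.injEq, Prod.mk.injEq]
    rw [hLdef, hAdef]
    simp only [map_add, map_one, map_zero]
    constructor <;>
      linear_combination (norm := (ring_nf <;> simp [CharTwo.ofNat_eq_mod])) (0 : F) * two_zero (F := F)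
  have hsum : psi φ (k⁻¹ * b) + psi φ (k⁻¹ * A) = psi φ k⁻¹ * (psi φ A + psi φ b) := by
    rw [psi_mul, psi_mul]; ring
  have e3 : t (some (pair φ η (k⁻¹ * b) (k⁻¹ * A))) = some (pair φ η (k⁻¹ * b)⁻¹ (k * A * w / b)) := by
    refine t_pair H (mul_ne_zero (inv_ne_zero hk0) hb) (mul_ne_zero (inv_ne_zero hk0) hA) hpne ?_
    rw [hsum, div_eq_mul_inv, psi_mul, psi_mul, psi_mul, psi_mul, psi_mul, psi_inv, psi_inv]
    field_simp
    linear_combination hwR
  have e4 : t (some (pair φ η A b)) = some (pair φ η A⁻¹ (b * w / A)) := by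
    refine t_pair H hA hb hne ?_
    rw [div_eq_mul_inv, psi_mul, psi_mul, psi_inv]
    field_simp
    linear_combination hwR
  rw [ht0, e1, e2, e3, e4] at h
  simp only [lmap, Option.map_some, pm, pair, beta, Option.some.injEq, Prod.mk.injEq, map_one] at h
  obtain ⟨h1, h2⟩ := h
  have hX : (k⁻¹ * b)⁻¹ + k * A * w / b = k / b * (1 + A * w) := by
    field_simp
  have hX' : A⁻¹ + b * w / A = (1 + b * w) / A := by field_simp
  refine ⟨k, w, hk0, hw0, hkε, hwR, ?_, ?_⟩
  · rw [hX, hX'] at h1
    field_simp at h1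
    linear_combination (norm := (ring_nf <;> simp [CharTwo.ofNat_eq_mod])) h1 + b * hAdef
  · rw [hX, hX'] at h2
    simp only [map_mul, map_add, map_div₀, map_one] at h2
    have hfb : φ b ≠ 0 := by simpa using hb
    have hfA : φ A ≠ 0 := (map_ne_zero φ).2 hA
    refine Eq.trans ?_ (h2.trans ?_)
    · simp only [psi]; field_simp
    · ring

set_option maxHeartbeats 1000000 in
set_option maxRecDepth 8000 in
theorem quad_eqs {b : F} (hb : b ≠ 0) (hb1 : b ≠ 1) :
    let L := (1 + η) * b + η * φ b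
    let P := psi φ b
    let Q := psi φ (1 + b)
    ∃ k w : F, k ≠ 0 ∧ w ≠ 0 ∧ psi φ k * ε = L ∧
      k * (1 + b) * (1 + (1 + b) * w) = b * b * (1 + w) ∧
      L * ε⁻¹ * Q * (1 + (1 + b) * w) * ((Q + P) * w + φ (1 + b)) =
        P * P * (1 + w) * ((Q + P) * w + 1) ∧
      L * ε⁻¹ * Q * ((1 + η) * (1 + b) * (Q + P) * w ^ 2 + Q * w + η * φ (1 + b)) =
        P * ((Q + P) * w * (L + P) + (1 + η) * P * (Q + P) * w ^ 2 + P * w + η * P) := by
  intro L' P' Q'
  simp only [L', P', Q']
  obtain ⟨hA, hR, hL⟩ := base_facts H hb hb1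
  obtain ⟨k, w, hk0, hw0, hkε, hwR, hX, hY⟩ := central_eqs H hb hb1
  set L := (1 + η) * b + η * φ b with hLdef
  set P := psi φ b with hP
  set Q := psi φ (1 + b) with hQ
  have hP0 : P ≠ 0 := psi_ne φ hb
  have hQ0 : Q ≠ 0 := psi_ne φ hA
  have hk : psi φ k = L * ε⁻¹ := by rw [← hkε, mul_inv_cancel_right₀ H.eps]
  have hw : (Q + P) * w * φ w = 1 := by rw [← hwR, psi]; ring
  -- the first quadratic
  have hI : L * ε⁻¹ * Q * (1 + (1 + b) * w) * ((Q + P) * w + φ (1 + b)) =
      P * P * (1 + w) * ((Q + P) * w + 1) := by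
    have h := congrArg (psi φ) hX
    rw [psi_mul, psi_mul, psi_mul, psi_mul, hk, ← hP, ← hQ] at h
    simp only [psi, map_add, map_one, map_mul] at h ⊢
    linear_combination (Q + P) * w * h - L * ε⁻¹ * Q * (1 + (1 + b) * w) * (1 + φ b) * hw +
      P * P * (1 + w) * hw
  -- the second quadratic
  have hII : L * ε⁻¹ * Q * ((1 + η) * (1 + b) * (Q + P) * w ^ 2 + Q * w + η * φ (1 + b)) =
      P * ((Q + P) * w * (L + P) + (1 + η) * P * (Q + P) * w ^ 2 + P * w + η * P) := by
    have hA' : φ (1 + b) ≠ 0 := (map_ne_zero φ).2 hA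
    have hQe : Q = (1 + b) * φ (1 + b) := rfl
    have hPe : P = b * φ b := rfl
    have hr : 1 + ((1 + η) * ((1 + φ b * φ w) / φ (1 + b)) * (b * w / (1 + b)) +
          η * ((1 + b * w) / (1 + b)) * (φ b * φ w / φ (1 + b))) +
          ((1 + η) * ((1 + b * w) / (1 + b)) + η * ((1 + φ b * φ w) / φ (1 + b))) =
        (Q + (1 + η) * (1 + φ b * φ w) * (b * w) + η * (1 + b * w) * (φ b * φ w) +
          (1 + η) * (1 + b * w) * φ (1 + b) + η * (1 + b) * (1 + φ b * φ w)) / Q := by
      rw [hQe]; field_simp; ring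
    rw [hr, div_mul_eq_mul_div, div_eq_div_iff hP0 hQ0, hk] at hY
    simp only [hLdef, hQe, hPe, map_add, map_one] at hY hw ⊢
    linear_combination (norm := (ring_nf <;> simp [CharTwo.ofNat_eq_mod]))
      ((1 + b) * (1 + φ b) + b * φ b) * w * hY +
      ((((1 + η) * b + η * φ b) * ε⁻¹) * ((1 + b) * (1 + φ b)) *
          ((1 + 2 * η) * ((1 + b) * (1 + φ b)) * w + η * (1 + φ b)) +
        (b * φ b) * ((1 + 2 * η) * (b * φ b) * w + η * φ b * (2 + b))) * hw
  exact ⟨k, w, hk0, hw0, hkε, hX, hI, hII⟩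

set_option maxHeartbeats 1000000 in
set_option maxRecDepth 8000 in
/-- The polynomial identity. -/
theorem main_identity {b : F} (hb : b ≠ 0) (hb1 : b ≠ 1) :
    η * (1 + η) * (psi φ b * (b + φ b) ^ 2 +
        ε⁻¹ ^ 2 * ((1 + η) * b + η * φ b) ^ 2 * psi φ (1 + b)) =
      (1 + ε⁻¹) * ((1 + η) * b + η * φ b) ^ 2 * (psi φ (1 + b) + psi φ b) := by
  obtain ⟨hA, hR, hL⟩ := base_facts H hb hb1
  obtain ⟨k, w, hk0, hw0, hkε, hX, hI, hII⟩ := quad_eqs H hb hb1
  set L := (1 + η) * b + η * φ b with hLdef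
  set P := psi φ b with hP
  set Q := psi φ (1 + b) with hQ
  have hP0 : P ≠ 0 := psi_ne φ hb
  have hQ0 : Q ≠ 0 := psi_ne φ hA
  -- both roots
  set c0 := P * P + L * ε⁻¹ * Q * φ (1 + b) with hc0
  set c1 := P * P * (b + φ b) + L * ε⁻¹ * Q * P with hc1
  set c2 := (Q + P) * (P * P + L * ε⁻¹ * Q * (1 + b)) with hc2
  set Δ := (Q + P) * L * (ε⁻¹ * Q + P) with hΔ
  have hA1 : (η * c1 + Δ) * w = c0 := by
    rw [hc1, hΔ, hc0]
    simp only [hLdef, hQ, hP, psi, map_add, map_one] at hI hII ⊢
    linear_combination (norm := (ring_nf <;> simp [CharTwo.ofNat_eq_mod])) hII + (1 + η) * hI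
  have hA2 : c2 * w = (1 + η) * c1 + Δ := by
    refine mul_right_cancel₀ hw0 ?_
    rw [hc1, hΔ, hc2]
    simp only [hLdef, hQ, hP, psi, map_add, map_one] at hI hII ⊢
    linear_combination (norm := (ring_nf <;> simp [CharTwo.ofNat_eq_mod])) hII + η * hI
  have hprod : (η * c1 + Δ) * ((1 + η) * c1 + Δ) = c0 * c2 := by
    rw [← hA2, ← hA1]; ring
  refine mul_left_cancel₀ hQ0 (eq_of_add ?_)
  refine (mul_eq_zero.1 (?_ : (P * P) * _ = 0)).resolve_left (mul_ne_zero hP0 hP0)
  simp only [hc0, hc1, hc2, hΔ, hLdef, hQ, hP, psi, map_add, map_one] at hprod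
  simp only [hLdef, hQ, hP, psi, map_add, map_one]
  linear_combination (norm := (ring_nf <;> simp [CharTwo.ofNat_eq_mod])) hprod

theorem eta_eps [Finite F] (hF : ∃ b : F, b ≠ 0 ∧ b ≠ 1) : (η = 0 ∨ η = 1) ∧ ε = 1 := by
  have hη : η * (1 + η) = 0 := by
    by_contra hne
    by_cases hfix : ∀ x : F, φ x = x → x = 0 ∨ x = 1
    · -- `x ↦ φ x / x` is onto
      have hη0 : η ≠ 0 := left_ne_zero_of_mul hne
      have hη1 : 1 + η ≠ 0 := right_ne_zero_of_mul hne
      let g : Fˣ → Fˣ := fun u => Units.map (φ : F →* F) u / u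
      have hg : Function.Injective g := by
        intro u v huv
        have h2 : φ ((u : F) / v) = (u : F) / v := by
          have := congrArg Units.val huv
          simp only [g, Units.val_div_eq_div_val, Units.coe_map, MonoidHom.coe_coe,
            RingEquiv.coe_toRingHom] at this
          rw [map_div₀, div_eq_div_iff (by simp) v.ne_zero]
          rw [div_eq_div_iff u.ne_zero v.ne_zero] at this
          linear_combination this
        rcases hfix _ h2 with h | h
        · exact absurd h (div_ne_zero u.ne_zero v.ne_zero)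
        · exact Units.ext ((div_eq_one_iff_eq v.ne_zero).1 h)
      obtain ⟨u, hu⟩ := Finite.injective_iff_surjective.1 hg (Units.mk0 _ (div_ne_zero hη1 hη0))
      have hu' : φ (u : F) / u = (1 + η) / η := congrArg Units.val hu |> fun e => by simpa [g] using e
      rw [div_eq_div_iff u.ne_zero hη0] at hu'
      exact lin_ne H u.ne_zero (by linear_combination hu' + ((1 + η) * (u : F)) * two_zero (F := F))
    · push Not at hfix
      obtain ⟨x, hx, hx0, hx1⟩ := hfix
      have key : ∀ x : F, φ x = x → x ≠ 0 → x ≠ 1 →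
          η * (1 + η) * ε⁻¹ ^ 2 * (1 + x) ^ 2 = 1 + ε⁻¹ := by
        intro x hx hx0 hx1
        have h := main_identity H hx0 hx1
        simp only [psi, map_add, map_one, hx] at h
        refine mul_left_cancel₀ (pow_ne_zero 2 hx0) ?_
        linear_combination (norm := (ring_nf <;> simp [CharTwo.ofNat_eq_mod])) h
      have hxx : x * x ≠ 1 := fun e => by
        rcases mul_self_eq_one_iff.1 e with h | h
        · exact hx1 h
        · exact hx1 (h.trans (CharTwo.neg_eq 1))
      have h2 := key (x * x) (by rw [map_mul, hx]) (mul_ne_zero hx0 hx0) hxx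
      rw [← key x hx hx0 hx1] at h2
      have h3 : (1 + x * x) ^ 2 = (1 + x) ^ 2 :=
        mul_left_cancel₀ (mul_ne_zero hne (pow_ne_zero 2 (inv_ne_zero H.eps))) h2
      have h4 : (x * (1 + x)) ^ 2 = 0 := by
        linear_combination (norm := (ring_nf <;> simp [CharTwo.ofNat_eq_mod])) h3
      rcases mul_eq_zero.1 (pow_eq_zero_iff (n := 2) two_ne_zero |>.1 h4) with h | h
      · exact hx0 h
      · exact hx1 (eq_of_add h).symm
  refine ⟨(mul_eq_zero.1 hη).imp id fun h => (eq_of_add h).symm, ?_⟩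
  obtain ⟨b, hb, hb1⟩ := hF
  obtain ⟨hA, hR, hL⟩ := base_facts H hb hb1
  have h := main_identity H hb hb1
  rw [hη, zero_mul] at h
  have := (mul_eq_zero.1 ((mul_eq_zero.1 h.symm).resolve_right hR)).resolve_right (pow_ne_zero 2 hL)
  exact inv_eq_one.1 (eq_of_add this).symm

set_option maxHeartbeats 1000000 in
set_option maxRecDepth 8000 in
/-- The field automorphism is a square root of the inverse squaring. -/
theorem phi_sq (hη : η = 0) (hε : ε = 1) (b : F) : φ (φ (b * b)) = b := by
  rcases eq_or_ne b 0 with rfl | hb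
  · simp
  rcases eq_or_ne b 1 with rfl | hb1
  · simp
  obtain ⟨hA, hR, hL⟩ := base_facts H hb hb1
  obtain ⟨k, w, hk0, hw0, hkε, hX, hI, hII⟩ := quad_eqs H hb hb1
  subst hη
  subst hε
  simp only [psi, map_add, map_one, inv_one, mul_one, add_zero, one_mul, zero_mul] at hkε hI hII hR
  have hD : (1 + b + φ b) ^ 2 * b * w =
      (b * φ b) * (b * φ b) + b * ((1 + b) * (1 + φ b)) * (1 + φ b) := by
    linear_combination (norm := (ring_nf <;> simp [CharTwo.ofNat_eq_mod])) hII + hI
  have hR' : (1 : F) + b + φ b ≠ 0 := by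
    intro e
    refine hR ?_
    linear_combination (norm := (ring_nf <;> simp [CharTwo.ofNat_eq_mod])) e
  have hz : φ b * φ b * (1 + w) + (1 + b) * (1 + (1 + b) * w) = 0 := by
    refine (mul_eq_zero.1 (?_ : ((1 + b + φ b) ^ 2 * b) * _ = 0)).resolve_left
      (mul_ne_zero (pow_ne_zero 2 hR') hb)
    linear_combination (norm := (ring_nf <;> simp [CharTwo.ofNat_eq_mod]))
      (φ b * φ b + (1 + b) * (1 + b)) * hD
  have h1w : 1 + (1 + b) * w ≠ 0 := by
    intro e
    rw [e, mul_zero, eq_comm, mul_eq_zero] at hX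
    have hw1 : w = 1 := (eq_of_add (hX.resolve_left (mul_ne_zero hb hb))).symm
    subst hw1
    exact hb (by linear_combination e - two_zero (F := F))
  have hk : k * (φ b * φ b) = b * b := by
    refine mul_right_cancel₀ (mul_ne_zero hA h1w) ?_
    linear_combination (norm := (ring_nf <;> simp [CharTwo.ofNat_eq_mod]))
      (φ b * φ b) * hX + (b * b) * hz
  have hφk := congrArg φ hk
  simp only [map_mul] at hφk
  rw [map_mul, map_mul]
  refine mul_left_cancel₀ hb ?_
  linear_combination (-(φ (φ b) * φ (φ b))) * hkε + k * hφk + hk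

theorem t_inv_ra {a : F} (ha : a ≠ 0) :
    t (some (a, psi φ a)) = some (0, ε / psi φ a) := by rw [← t_sa H ha, H.invol]

omit H in
/-- The involution is determined by the automorphism. -/
theorem t_unique {φ : F ≃+* F} {t t' : Option (F × F) → Option (F × F)} (H : Model φ 0 1 t)
    (H' : Model φ 0 1 t') : t = t' := by
  funext v
  rcases v with _ | ⟨x, y⟩
  · rw [H.t_none, H'.t_none]
  rcases eq_or_ne x 0 with rfl | hx
  · rcases eq_or_ne y 0 with rfl | hy
    · conv_lhs => rw [← H.t_none, H.invol]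
      conv_rhs => rw [← H'.t_none, H'.invol]
    obtain ⟨a, ha⟩ := H.surj y⁻¹
    have ha0 : a ≠ 0 := by
      rintro rfl
      exact inv_ne_zero hy (by simpa [psi] using ha.symm)
    have e : ((0 : F), y) = (0, 1 / psi φ a) := by rw [ha, one_div, inv_inv]
    rw [e, t_sa H ha0, t_sa H' ha0]
  have hfx : φ x ≠ 0 := (map_ne_zero φ).2 hx
  obtain ⟨b, rfl⟩ : ∃ b, y = φ x * b := ⟨y / φ x, by field_simp⟩
  rcases eq_or_ne b 0 with rfl | hb
  · rw [mul_zero, t_ra H hx, t_ra H' hx]
  rcases eq_or_ne b x with rfl | hbx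
  · rw [show φ b * b = psi φ b by rw [psi, mul_comm], t_inv_ra H hb, t_inv_ra H' hb]
  have ha : x + b ≠ 0 := fun e => hbx (eq_of_add e).symm
  have hab : x + b ≠ b := fun e => hx (by linear_combination e)
  obtain ⟨b', hb'⟩ := H.surj (psi φ b / (psi φ (x + b) * (psi φ (x + b) + psi φ b)))
  rw [eq_div_iff (mul_ne_zero (psi_ne φ ha) fun e => hab (H.inj (eq_of_add e)))] at hb'
  have e : (x, φ x * b) = pair φ 0 (x + b) b := by
    simp only [pair, add_zero, one_mul, zero_mul, add_assoc, add_self]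
  rw [e, t_pair H ha hb hab hb', t_pair H' ha hb hab hb']

end Cfsg.Agent.CharDeep.SzUniq
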